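import Groth.Agent.OmegaLib.DerAffine
import Groth.Agent.QC.Local
import Groth.Agent.QC.Closure

/-!
# The module of a universal derivation
-/

universe u

open CategoryTheory CategoryTheory.Limits AlgebraicGeometry TopologicalSpace Opposite TensorProduct

set_option backward.isDefEq.respectTransparency false
set_option linter.style.haveILetI false

noncomputable section

namespace Groth.Agent.OmegaLib

open Groth.Agent.QC Groth.Agent.ModDesc

variable {X Y : Scheme.{u}} (f : X ⟶ Y) {U : X.Opens} {V : Y.Opens} (e : U ≤ f ⁻¹ᵁ V)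

lemma restrict_smul {M : X.Modules} (O : U.toScheme.Opens) (r : Γ(U.toScheme, O)) (x : Γ(M.restrict U.ι, O)) :
    (M.restrictAppIso U.ι O).hom (r • x) =
      HSMul.hSMul (α := Γ(X, U.ι ''ᵁ O)) (β := Γ(M, U.ι ''ᵁ O)) r ((M.restrictAppIso U.ι O).hom x) := by
  refine (M.smul_restrictAppIso_hom_apply U.ι O r x).trans ?_
  rw [Scheme.Opens.ι_appIso]
  rfl

variable {f}

lemma resDer_mul {F : X.Modules} (D : OmegaSh.Der f F) (O : U.toScheme.Opens) (a b : Γ(U.toScheme, O)) :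
    (F.restrictAppIso U.ι O).inv (D.app (U.ι ''ᵁ O) (a * b)) =
      a • (F.restrictAppIso U.ι O).inv (D.app (U.ι ''ᵁ O) b) +
        b • (F.restrictAppIso U.ι O).inv (D.app (U.ι ''ᵁ O) a) := by
  apply (F.restrictAppIso U.ι O).addCommGroupIsoToAddEquiv.injective
  show (F.restrictAppIso U.ι O).hom ((F.restrictAppIso U.ι O).inv (D.app (U.ι ''ᵁ O) (a * b))) =
    (F.restrictAppIso U.ι O).hom (a • (F.restrictAppIso U.ι O).inv (D.app (U.ι ''ᵁ O) b) +
      b • (F.restrictAppIso U.ι O).inv (D.app (U.ι ''ᵁ O) a))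
  rw [map_add, restrict_smul, restrict_smul]
  exact app_mul D (U.ι ''ᵁ O) a b

/-- A derivation restricted to opens. -/
def resDer {F : X.Modules} (D : OmegaSh.Der f F) : OmegaSh.Der (f.resLE V U e) (F.restrict U.ι) where
  d {O} := AddMonoidHom.mk' (fun s => (F.restrictAppIso U.ι O.unop).inv (D.app (U.ι ''ᵁ O.unop) s))
    fun a b => by
      refine (congrArg (F.restrictAppIso U.ι O.unop).inv (map_add (D.app (U.ι ''ᵁ O.unop)) a b)).trans ?_
      exact map_add _ _ _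
  d_mul {O} a b := resDer_mul D O.unop a b
  d_map {O O'} i s := (res_app D (U.ι.image_mono i.unop.le) s).symm
  d_app {W} c := by
    have h : (f.resLE V U e).app W.unop =
        f.appLE (V.ι ''ᵁ W.unop) (U.ι ''ᵁ ((f.resLE V U e) ⁻¹ᵁ W.unop))
          ((Scheme.Hom.le_resLE_preimage_iff f e W.unop _).mp le_rfl) := by
      rw [Scheme.Hom.app_eq_appLE, Scheme.Hom.resLE_appLE]
    show (F.restrictAppIso U.ι _).inv (D.app _ ((f.resLE V U e).app W.unop c)) = 0
    rw [h]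
    refine (congrArg (F.restrictAppIso U.ι _).inv (app_appLE D _ c)).trans ?_
    exact map_zero _

lemma resDer_app {F : X.Modules} (D : OmegaSh.Der f F) (O : U.toScheme.Opens) (s : Γ(U.toScheme, O)) :
    (F.restrictAppIso U.ι O).hom ((resDer e D).app O s) = D.app (U.ι ''ᵁ O) s := rfl

/-- A derivation pushed forward. -/
def pushDer {P : U.toScheme.Modules} (G : OmegaSh.Der (f.resLE V U e) P) :
    OmegaSh.Der f ((Scheme.Modules.pushforward U.ι).obj P) where
  d {O} := AddMonoidHom.mk' (fun s => G.app (U.ι ⁻¹ᵁ O.unop) (U.ι.app O.unop s))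
    fun a b => by
      show G.app (U.ι ⁻¹ᵁ O.unop) (U.ι.app O.unop (a + b)) = _
      rw [map_add, map_add]
  d_mul {O} a b := by
    show G.app (U.ι ⁻¹ᵁ O.unop) (U.ι.app O.unop (a * b)) = _
    rw [map_mul, app_mul]
    rfl
  d_map {O O'} i s := by
    show G.app (U.ι ⁻¹ᵁ O'.unop) (U.ι.app O'.unop (resO X i.unop.le s)) =
      res P (U.ι.preimage_mono i.unop.le) (G.app (U.ι ⁻¹ᵁ O.unop) (U.ι.app O.unop s))
    rw [res_app]
    congr 1
    exact ConcreteCategory.congr_hom (U.ι.naturality (homOfLE i.unop.le).op) s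
  d_app {W} c := by
    show G.app (U.ι ⁻¹ᵁ (f ⁻¹ᵁ W.unop)) (U.ι.app (f ⁻¹ᵁ W.unop) (f.app W.unop c)) = 0
    have he : U.ι ⁻¹ᵁ (f ⁻¹ᵁ W.unop) ≤ (f.resLE V U e) ⁻¹ᵁ (V.ι ⁻¹ᵁ W.unop) := by
      rw [← Scheme.Hom.comp_preimage, ← Scheme.Hom.comp_preimage, Scheme.Hom.resLE_comp_ι]
    have h : f.app W.unop ≫ U.ι.app (f ⁻¹ᵁ W.unop) =
        V.ι.app W.unop ≫ (f.resLE V U e).appLE (V.ι ⁻¹ᵁ W.unop) _ he := by
      have key : ∀ (k : U.toScheme ⟶ Y) (h' : U.ι ⁻¹ᵁ (f ⁻¹ᵁ W.unop) ≤ k ⁻¹ᵁ W.unop),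
          f.resLE V U e ≫ V.ι = k →
          V.ι.app W.unop ≫ (f.resLE V U e).appLE (V.ι ⁻¹ᵁ W.unop) _ he = k.appLE W.unop _ h' := by
        rintro k h' rfl
        rw [Scheme.Hom.app_eq_appLE, Scheme.Hom.appLE_comp_appLE]
      rw [key (U.ι ≫ f) le_rfl (Scheme.Hom.resLE_comp_ι f e), Scheme.Hom.app_eq_appLE, Scheme.Hom.app_eq_appLE,
        Scheme.Hom.appLE_comp_appLE]
    have h2 := ConcreteCategory.congr_hom h c
    rw [ConcreteCategory.comp_apply, ConcreteCategory.comp_apply] at h2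
    rw [h2]
    exact app_appLE G he _

/-- Universal derivations restrict to universal derivations. -/
theorem isUniversal_resDer {Ω : X.Modules} {d : OmegaSh.Der f Ω} (hd : OmegaSh.IsUniversal d) :
    OmegaSh.IsUniversal (resDer e d) := by
  intro P G
  let adj := Scheme.Modules.restrictAdjunction U.ι
  obtain ⟨α, hα, huniq⟩ := hd _ (pushDer e G)
  have hα' : ∀ O s, α.app O (d.app O s) = G.app (U.ι ⁻¹ᵁ O) (U.ι.app O s) := fun O s =>
    congrArg (fun E : OmegaSh.Der f _ => E.app O s) hα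
  have hval : ∀ (β : Ω.restrict U.ι ⟶ P) (O : X.Opens) (s : Γ(X, O)),
      (adj.homEquiv Ω P β).app O (d.app O s) =
        β.app (U.ι ⁻¹ᵁ O) ((resDer e d).app (U.ι ⁻¹ᵁ O) (U.ι.app O s)) := by
    intro β O s
    rw [Adjunction.homEquiv_unit]
    simp only [Scheme.Modules.Hom.comp_app, ConcreteCategory.comp_apply]
    show β.app (U.ι ⁻¹ᵁ O) (res Ω (U.ι.image_preimage_le O) (d.app O s)) =
      β.app (U.ι ⁻¹ᵁ O) ((resDer e d).app (U.ι ⁻¹ᵁ O) (U.ι.app O s))
    rw [res_app, Scheme.Opens.ι_app]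
    rfl
  refine ⟨(adj.homEquiv Ω P).symm α, der_ext fun O t => ?_, fun β hβ => ?_⟩
  · refine (postcomp_app _ _ O t).trans ?_
    obtain ⟨s, hs⟩ : ∃ s, resO U.toScheme (U.ι.preimage_image_eq O).ge (U.ι.app (U.ι ''ᵁ O) s) = t := by
      refine ⟨t, ?_⟩
      rw [Scheme.Opens.ι_app]
      show resO X (U.ι.image_mono (U.ι.preimage_image_eq O).ge)
        (resO X (U.ι.image_preimage_le (U.ι ''ᵁ O)) t) = t
      rw [resO_resO]
      exact resO_self _ _
    have h1 := hval ((adj.homEquiv Ω P).symm α) (U.ι ''ᵁ O) s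
    rw [Equiv.apply_symm_apply, hα'] at h1
    have h2 := congrArg (res P (U.ι.preimage_image_eq O).ge) h1
    rw [res_app, hs] at h2
    rw [h2, app_res]
    refine congrArg _ ?_
    rw [res_app, hs]
  · refine (Equiv.eq_symm_apply (adj.homEquiv Ω P)).mpr (huniq _ (der_ext fun O s => ?_))
    refine (postcomp_app _ _ O s).trans ((hval β O s).trans ?_)
    exact congrArg (fun E : OmegaSh.Der (f.resLE V U e) P => E.app (U.ι ⁻¹ᵁ O) (U.ι.app O s)) hβ

/-- Two universal derivations are isomorphic. -/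
theorem exists_iso_of_isUniversal {Ω Ω' : X.Modules} {d : OmegaSh.Der f Ω} {d' : OmegaSh.Der f Ω'}
    (hd : OmegaSh.IsUniversal d) (hd' : OmegaSh.IsUniversal d') :
    ∃ θ : Ω ≅ Ω', ∀ O s, θ.hom.app O (d.app O s) = d'.app O s := by
  obtain ⟨α, hα, -⟩ := hd Ω' d'
  obtain ⟨β, hβ, -⟩ := hd' Ω d
  obtain ⟨γ, -, hγ⟩ := hd Ω d
  obtain ⟨γ', -, hγ'⟩ := hd' Ω' d'
  have h1 : α ≫ β = 𝟙 Ω := (hγ _ (der_ext fun O s => by
    refine (postcomp_app _ _ O s).trans ?_
    show β.app O (α.app O (d.app O s)) = _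
    rw [← postcomp_app d α, hα, ← postcomp_app d' β, hβ])).trans (hγ (𝟙 Ω) (der_ext fun O s => rfl)).symm
  have h2 : β ≫ α = 𝟙 Ω' := (hγ' _ (der_ext fun O s => by
    refine (postcomp_app _ _ O s).trans ?_
    show α.app O (β.app O (d'.app O s)) = _
    rw [← postcomp_app d' β, hβ, ← postcomp_app d α, hα])).trans (hγ' (𝟙 Ω') (der_ext fun O s => rfl)).symm
  exact ⟨⟨α, β, h1, h2⟩, fun O s => congrArg (fun E : OmegaSh.Der f Ω' => E.app O s) hα⟩

/-- The module of a universal derivation is quasi-coherent. -/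
theorem isQCoh_of_isUniversal {Ω : X.Modules} {d : OmegaSh.Der f Ω} (hd : OmegaSh.IsUniversal d) :
    Coh.IsQCoh Ω := by
  refine isQCoh_of_local fun x => ?_
  obtain ⟨_, ⟨(V : Y.Opens), hV, rfl⟩, hxV, -⟩ := Y.isBasis_affineOpens.exists_subset_of_mem_open
    (Set.mem_univ (f x)) isOpen_univ
  obtain ⟨_, ⟨(U : X.Opens), hU, rfl⟩, hxU, hUV⟩ := X.isBasis_affineOpens.exists_subset_of_mem_open
    (show x ∈ ((f ⁻¹ᵁ V : X.Opens) : Set X) from hxV) (f ⁻¹ᵁ V).2
  haveI : IsAffine U.toScheme := hU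
  haveI : IsAffine V.toScheme := hV
  obtain ⟨θ, -⟩ := exists_iso_of_isUniversal (isUniversal_dOmega_affine (f.resLE V U hUV))
    (isUniversal_resDer hUV hd)
  exact ⟨U.toScheme, U.ι, inferInstance, by simpa using hxU,
    isQCoh_of_iso θ (isQCoh_pullback _ (isQCoh_idealMod _))⟩

set_option maxHeartbeats 1600000 in
/-- Over affine pieces the sections of the module of a universal derivation are the Kähler differentials. -/
theorem exists_sectEquiv {Ω : X.Modules} {d : OmegaSh.Der f Ω} (hd : OmegaSh.IsUniversal d)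
    (hU : IsAffineOpen U) (hV : IsAffineOpen V) :
    letI : Algebra Γ(Y, V) Γ(X, U) := (f.appLE V U e).hom.toAlgebra
    ∃ T : Γ(Ω, U) ≃+ Ω[Γ(X, U)⁄Γ(Y, V)],
      (∀ (a : Γ(X, U)) m, T (a • m) = a • T m) ∧ ∀ a, T (d.app U a) = KaehlerDifferential.D _ _ a := by
  letI : Algebra Γ(Y, V) Γ(X, U) := (f.appLE V U e).hom.toAlgebra
  haveI : IsAffine U.toScheme := hU
  haveI : IsAffine V.toScheme := hV
  let g := f.resLE V U e
  obtain ⟨θ, hθ⟩ := exists_iso_of_isUniversal (isUniversal_dOmega_affine g) (isUniversal_resDer e hd)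
  have w : Spec.map (CommRingCat.ofHom (algebraMap Γ(Y, V) Γ(X, U))) ≫ hV.isoSpec.inv = hU.isoSpec.inv ≫ g := by
    rw [← cancel_mono V.ι, Category.assoc, Category.assoc, Scheme.Hom.resLE_comp_ι, hV.isoSpec_inv_ι,
      ← Category.assoc, hU.isoSpec_inv_ι, RingHom.algebraMap_toAlgebra, CommRingCat.ofHom_hom,
      IsAffineOpen.SpecMap_appLE_fromSpec]
  obtain ⟨ψ, T, hψ, -, hT, hsmul, hTd⟩ :=
    exists_sectEquiv_omega (R := Γ(Y, V)) (A := Γ(X, U)) g hV.isoSpec.inv hU.isoSpec.inv w ⊤ (by simp)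
  have hψres : ∀ a : Γ(X, U), ψ (resO X (U.ι_image_top).le a) = a := by
    intro a
    rw [hψ]
    show (Scheme.ΓSpecIso Γ(X, U)).hom (hU.isoSpec.inv.appLE ⊤ ⊤ _ _) = a
    have h1 : hU.isoSpec.inv.appLE ⊤ ⊤ le_top = hU.isoSpec.inv.appTop := by
      rw [Scheme.Hom.appTop, Scheme.Hom.app_eq_appLE]; rfl
    rw [h1, hU.isoSpec_inv_appTop, ConcreteCategory.comp_apply, Iso.inv_hom_id_apply]
    show resO X (U.ι_image_top).ge (resO X (U.ι_image_top).le a) = a
    rw [resO_resO]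
    exact resO_self _ _
  let E : Γ(Ω, U) → Γ(Omega.sheaf g, ⊤) := fun m =>
    θ.inv.app ⊤ ((Ω.restrictAppIso U.ι ⊤).inv (res Ω (U.ι_image_top).le m))
  have hE : Function.Bijective E := by
    refine (ConcreteCategory.bijective_of_isIso (θ.inv.app ⊤)).comp
      ((ConcreteCategory.bijective_of_isIso (Ω.restrictAppIso U.ι ⊤).inv).comp ?_)
    exact res_bijective_of_eq Ω U.ι_image_top
  refine ⟨AddEquiv.ofBijective (AddMonoidHom.mk' (fun m => T (E m)) fun a b => by simp only [E, map_add])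
    (hT.comp hE), fun a m => ?_, fun a => ?_⟩
  · show T (E (a • m)) = a • T (E m)
    have h : (Ω.restrictAppIso U.ι ⊤).inv (res Ω (U.ι_image_top).le (a • m)) =
        HSMul.hSMul (α := Γ(U.toScheme, ⊤)) (β := Γ(Ω.restrict U.ι, ⊤)) (resO X (U.ι_image_top).le a)
          ((Ω.restrictAppIso U.ι ⊤).inv (res Ω (U.ι_image_top).le m)) := by
      apply (Ω.restrictAppIso U.ι ⊤).addCommGroupIsoToAddEquiv.injective
      refine Eq.trans ?_ (restrict_smul (M := Ω) ⊤ _ _).symm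
      exact res_smul Ω (U.ι_image_top).le a m
    simp only [E, h, Scheme.Modules.Hom.app_smul, hsmul, hψres]
  · show T (E (d.app U a)) = _
    have h : (Ω.restrictAppIso U.ι ⊤).inv (res Ω (U.ι_image_top).le (d.app U a)) =
        (resDer e d).app ⊤ (resO X (U.ι_image_top).le a) := by
      rw [res_app]
      rfl
    have h2 : E (d.app U a) = OmegaSh.dSect g ⊤ (resO X (U.ι_image_top).le a) := by
      show θ.inv.app ⊤ _ = _
      rw [h, ← hθ]
      exact congr(($θ.hom_inv_id).app ⊤ _)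
    rw [h2, hTd, hψres]

end Groth.Agent.OmegaLib
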