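import Groth.Agent.OmegaLib.Universal
import Groth.Agent.ModDesc.BaseChange

/-!
# Canonical maps of modules of differentials
-/

universe u

open CategoryTheory CategoryTheory.Limits AlgebraicGeometry TopologicalSpace Opposite TensorProduct

set_option backward.isDefEq.respectTransparency false
set_option linter.style.haveILetI false

noncomputable section

namespace Groth.Agent.OmegaLib

open Groth.Agent.QC Groth.Agent.ModDesc

variable {X S X' S' : Scheme.{u}} {f : X ⟶ S} {f' : X' ⟶ S'} {h : X' ⟶ X} {b : S' ⟶ S}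

/-- A derivation pushed forward along a square. -/
def sqDer {Ω' : X'.Modules} (hsq : f' ≫ b = h ≫ f) (d' : OmegaSh.Der f' Ω') :
    OmegaSh.Der f ((Scheme.Modules.pushforward h).obj Ω') where
  d {O} := AddMonoidHom.mk' (fun s => d'.app (h ⁻¹ᵁ O.unop) (h.app O.unop s))
    fun x y => by
      show d'.app (h ⁻¹ᵁ O.unop) (h.app O.unop (x + y)) = _
      rw [map_add, map_add]
  d_mul {O} x y := by
    show d'.app (h ⁻¹ᵁ O.unop) (h.app O.unop (x * y)) = _
    rw [map_mul, app_mul]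
    rfl
  d_map {O O'} i s := by
    show d'.app (h ⁻¹ᵁ O'.unop) (h.app O'.unop (resO X i.unop.le s)) =
      res Ω' (h.preimage_mono i.unop.le) (d'.app (h ⁻¹ᵁ O.unop) (h.app O.unop s))
    rw [res_app]
    congr 1
    exact ConcreteCategory.congr_hom (h.naturality (homOfLE i.unop.le).op) s
  d_app {W} c := by
    show d'.app (h ⁻¹ᵁ (f ⁻¹ᵁ W.unop)) (h.app (f ⁻¹ᵁ W.unop) (f.app W.unop c)) = 0
    have he : h ⁻¹ᵁ (f ⁻¹ᵁ W.unop) ≤ f' ⁻¹ᵁ (b ⁻¹ᵁ W.unop) := by
      rw [← Scheme.Hom.comp_preimage, ← Scheme.Hom.comp_preimage, hsq]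
    have key : ∀ (k : X' ⟶ S) (h' : h ⁻¹ᵁ (f ⁻¹ᵁ W.unop) ≤ k ⁻¹ᵁ W.unop), f' ≫ b = k →
        b.app W.unop ≫ f'.appLE (b ⁻¹ᵁ W.unop) _ he = k.appLE W.unop _ h' := by
      rintro k h' rfl
      rw [Scheme.Hom.app_eq_appLE, Scheme.Hom.appLE_comp_appLE]
    have h2 : f.app W.unop ≫ h.app (f ⁻¹ᵁ W.unop) = b.app W.unop ≫ f'.appLE (b ⁻¹ᵁ W.unop) _ he := by
      rw [key (h ≫ f) le_rfl hsq, Scheme.Hom.app_eq_appLE, Scheme.Hom.app_eq_appLE, Scheme.Hom.appLE_comp_appLE]
    have h3 := ConcreteCategory.congr_hom h2 c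
    rw [ConcreteCategory.comp_apply, ConcreteCategory.comp_apply] at h3
    rw [h3]
    exact app_appLE d' he _

/-- The canonical map of a square. -/
theorem existsUnique_diffCompat (hsq : f' ≫ b = h ≫ f) {Ω : X.Modules} {d : OmegaSh.Der f Ω}
    (hd : OmegaSh.IsUniversal d) {Ω' : X'.Modules} (d' : OmegaSh.Der f' Ω') :
    ∃! c : (Scheme.Modules.pullback h).obj Ω ⟶ Ω', OmegaSh.IsDiffCompat h d d' c := by
  let adj := Scheme.Modules.pullbackPushforwardAdjunction h
  obtain ⟨α, hα, huniq⟩ := hd _ (sqDer hsq d')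
  have hval : ∀ (c : (Scheme.Modules.pullback h).obj Ω ⟶ Ω') (U : X.Opens) (s : Γ(X, U)),
      (adj.homEquiv Ω Ω' c).app U (d.app U s) = c.app (h ⁻¹ᵁ U) (OmegaSh.pullSect h Ω U (d.app U s)) := by
    intro c U s
    rw [Adjunction.homEquiv_unit]
    rfl
  refine ⟨(adj.homEquiv Ω Ω').symm α, fun U s => ?_, fun c hc => ?_⟩
  · rw [← hval, Equiv.apply_symm_apply]
    exact congrArg (fun E : OmegaSh.Der f _ => E.app U s) hα
  · refine (Equiv.eq_symm_apply (adj.homEquiv Ω Ω')).mpr (huniq _ (der_ext fun U s => ?_))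
    exact (postcomp_app _ _ U s).trans ((hval c U s).trans (hc U s))

/-- Morphisms out of the module of a universal derivation are determined on differentials. -/
theorem hom_ext {Ω F : X.Modules} {d : OmegaSh.Der f Ω} (hd : OmegaSh.IsUniversal d) (α β : Ω ⟶ F)
    (hab : ∀ U s, α.app U (d.app U s) = β.app U (d.app U s)) : α = β := by
  obtain ⟨γ, -, hγ⟩ := hd F (d.postcomp α.val)
  exact (hγ α rfl).trans (hγ β (der_ext fun U s => (postcomp_app _ _ U s).trans (hab U s).symm)).symm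

/-- The differentials span the sections over an affine piece. -/
theorem span_app {Ω : X.Modules} {d : OmegaSh.Der f Ω} (hd : OmegaSh.IsUniversal d) {U : X.Opens} {V : S.Opens}
    (e : U ≤ f ⁻¹ᵁ V) (hU : IsAffineOpen U) (hV : IsAffineOpen V) :
    Submodule.span Γ(X, U) (Set.range (d.app U)) = ⊤ := by
  letI : Algebra Γ(S, V) Γ(X, U) := (f.appLE V U e).hom.toAlgebra
  obtain ⟨T, hT, hTd⟩ := exists_sectEquiv e hd hU hV
  let L : Γ(Ω, U) ≃ₗ[Γ(X, U)] Ω[Γ(X, U)⁄Γ(S, V)] := { T with map_smul' := hT }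
  refine Submodule.map_injective_of_injective (f := L.toLinearMap) L.injective ?_
  rw [Submodule.map_span, Submodule.map_top, LinearEquiv.range, ← Set.range_comp]
  convert KaehlerDifferential.span_range_derivation Γ(S, V) Γ(X, U) using 2
  exact congrArg Set.range (funext fun a => hTd a)

end Groth.Agent.OmegaLib
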