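import Groth.Agent.OmegaLib.Coords
import Groth.Agent.ModDesc.Func

/-!
# Base change of modules of differentials
-/

universe u

open CategoryTheory CategoryTheory.Limits AlgebraicGeometry TopologicalSpace Opposite TensorProduct

set_option backward.isDefEq.respectTransparency false
set_option linter.style.haveILetI false

noncomputable section

namespace Groth.Agent.OmegaLib

open Groth.Agent.QC Groth.Agent.ModDesc

set_option maxHeartbeats 1600000 in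
/-- The canonical map of a cartesian square is an isomorphism. -/
theorem isIso_of_isPullback {X S X' S' : Scheme.{u}} {f : X ⟶ S} {g : S' ⟶ S} {g' : X' ⟶ X} {f' : X' ⟶ S'}
    (hsq : IsPullback g' f' f g) {Ω : X.Modules} {d : OmegaSh.Der f Ω} (hd : OmegaSh.IsUniversal d)
    {Ω' : X'.Modules} {d' : OmegaSh.Der f' Ω'} (hd' : OmegaSh.IsUniversal d')
    {c : (Scheme.Modules.pullback g').obj Ω ⟶ Ω'} (hc : OmegaSh.IsDiffCompat g' d d' c) : IsIso c := by
  have hex : ∀ x' : X', ∃ (V : S.Opens) (U : X.Opens) (V' : S'.Opens), IsAffineOpen V ∧ IsAffineOpen U ∧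
      IsAffineOpen V' ∧ U ≤ f ⁻¹ᵁ V ∧ V' ≤ g ⁻¹ᵁ V ∧ x' ∈ g' ⁻¹ᵁ U ⊓ f' ⁻¹ᵁ V' := by
    intro x'
    obtain ⟨V, hV, U, hU, e, hx⟩ : ∃ (V : S.Opens) (_ : IsAffineOpen V) (U : X.Opens) (_ : IsAffineOpen U),
      U ≤ f ⁻¹ᵁ V ∧ g' x' ∈ U := by
      obtain ⟨V, hV, U, hU, e, hx⟩ := exists_affine_pair f (g' x')
      exact ⟨V, hV, U, hU, e, hx⟩
    have hV'' : f' x' ∈ g ⁻¹ᵁ V := by
      show (f' ≫ g) x' ∈ V
      rw [← hsq.w]
      exact e hx
    obtain ⟨_, ⟨(V' : S'.Opens), hV', rfl⟩, hxV', hV'le⟩ := S'.isBasis_affineOpens.exists_subset_of_mem_open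
      (show f' x' ∈ ((g ⁻¹ᵁ V : S'.Opens) : Set S') from hV'') (g ⁻¹ᵁ V).2
    exact ⟨V, U, V', hV, hU, hV', e, hV'le, hx, hxV'⟩
  choose V U V' hV hU hV' e eg hmem using hex
  have haff : ∀ x', IsAffineOpen (g' ⁻¹ᵁ U x' ⊓ f' ⁻¹ᵁ V' x') := fun x' => by
    haveI : IsAffine (V x').toScheme := hV x'
    haveI : IsAffine (U x').toScheme := hU x'
    haveI : IsAffine (V' x').toScheme := hV' x'
    exact .of_isIso (Scheme.Hom.isPullback_resLE hsq (eg x') (e x') rfl).isoPullback.hom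
  refine isIso_of_affine_cover (isQCoh_pullback _ (isQCoh_of_isUniversal hd)) (isQCoh_of_isUniversal hd') c
    (fun x' => g' ⁻¹ᵁ U x' ⊓ f' ⁻¹ᵁ V' x') haff (fun x' => ⟨x', hmem x'⟩) fun x' => ?_
  have eh : g' ⁻¹ᵁ U x' ⊓ f' ⁻¹ᵁ V' x' ≤ g' ⁻¹ᵁ U x' := inf_le_left
  have ef : g' ⁻¹ᵁ U x' ⊓ f' ⁻¹ᵁ V' x' ≤ f' ⁻¹ᵁ V' x' := inf_le_right
  have hsection := isIso_pushoutSection_of_isAffineOpen hsq (eg x') (e x') rfl (hV x') (hV' x') (hU x')
  have hpo := (isIso_pushoutSection_iff hsq (eg x') (e x') rfl).mp hsection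
  have w : ∀ r, g'.appLE (U x') _ eh (f.appLE (V x') (U x') (e x') r) =
      f'.appLE (V' x') _ ef (g.appLE (V x') (V' x') (eg x') r) := fun r =>
    ConcreteCategory.congr_hom hpo.w r
  letI : Algebra Γ(S, V x') Γ(X, U x') := (f.appLE (V x') (U x') (e x')).hom.toAlgebra
  letI : Algebra Γ(S', V' x') Γ(X', g' ⁻¹ᵁ U x' ⊓ f' ⁻¹ᵁ V' x') := (f'.appLE (V' x') _ ef).hom.toAlgebra
  letI : Algebra Γ(X, U x') Γ(X', g' ⁻¹ᵁ U x' ⊓ f' ⁻¹ᵁ V' x') := (g'.appLE (U x') _ eh).hom.toAlgebra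
  letI : Algebra Γ(S, V x') Γ(S', V' x') := (g.appLE (V x') (V' x') (eg x')).hom.toAlgebra
  letI : Algebra Γ(S, V x') Γ(X', g' ⁻¹ᵁ U x' ⊓ f' ⁻¹ᵁ V' x') :=
    ((f'.appLE (V' x') _ ef).hom.comp (g.appLE (V x') (V' x') (eg x')).hom).toAlgebra
  haveI : IsScalarTower Γ(S, V x') Γ(S', V' x') Γ(X', g' ⁻¹ᵁ U x' ⊓ f' ⁻¹ᵁ V' x') :=
    IsScalarTower.of_algebraMap_eq' rfl
  haveI : IsScalarTower Γ(S, V x') Γ(X, U x') Γ(X', g' ⁻¹ᵁ U x' ⊓ f' ⁻¹ᵁ V' x') :=
    IsScalarTower.of_algebraMap_eq fun r => (w r).symm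
  haveI : Algebra.IsPushout Γ(S, V x') Γ(S', V' x') Γ(X, U x') Γ(X', g' ⁻¹ᵁ U x' ⊓ f' ⁻¹ᵁ V' x') :=
    CommRingCat.isPushout_iff_isPushout.mp hpo.flip
  obtain ⟨L₀, L', hL, -, -⟩ := exists_coords hd hd' hc (hU x') (hV x') (haff x') (hV' x') (e x') ef eh
    (g.appLE (V x') (V' x') (eg x')).hom w
  let ψ := LinearMap.liftBaseChange Γ(X', g' ⁻¹ᵁ U x' ⊓ f' ⁻¹ᵁ V' x')
    (KaehlerDifferential.map Γ(S, V x') Γ(S', V' x') Γ(X, U x') Γ(X', g' ⁻¹ᵁ U x' ⊓ f' ⁻¹ᵁ V' x'))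
  have hψ : Function.Bijective ψ := by
    have h : ∀ z, ψ z =
        KaehlerDifferential.tensorKaehlerEquiv Γ(S, V x') Γ(S', V' x') Γ(X, U x') _ z := by
      intro z
      induction z with
      | zero => simp
      | add a b ha hb => rw [map_add, map_add, ha, hb]
      | tmul b ω =>
        have hω : ω ∈ Submodule.span Γ(X, U x') (Set.range (KaehlerDifferential.D Γ(S, V x') Γ(X, U x'))) := by
          rw [KaehlerDifferential.span_range_derivation]; trivial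
        induction hω using Submodule.span_induction generalizing b with
        | mem y hy =>
          obtain ⟨a, rfl⟩ := hy
          rw [KaehlerDifferential.tensorKaehlerEquiv_tmul_D, LinearMap.liftBaseChange_tmul,
            KaehlerDifferential.map_D]
        | zero => simp
        | add y z _ _ hy hz => rw [TensorProduct.tmul_add, map_add, map_add, hy, hz]
        | smul r y _ hy =>
          rw [← TensorProduct.smul_tmul, hy]
    rw [show (ψ : _ → _) = _ from funext h]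
    exact LinearEquiv.bijective _
  have : (fun m => L' (c.app _ m)) = ψ ∘ L₀ := funext hL
  refine (Function.Bijective.of_comp_iff' L'.bijective _).mp ?_
  show Function.Bijective (fun m => L' (c.app _ m))
  rw [this]
  exact hψ.comp L₀.bijective

end Groth.Agent.OmegaLib
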