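import Groth.Agent.OmegaLib.Compat
import Groth.Agent.ModDesc.Iso

/-!
# Finiteness of modules of differentials; universality of `dOmega`
-/

universe u

open CategoryTheory CategoryTheory.Limits AlgebraicGeometry TopologicalSpace Opposite TensorProduct

set_option backward.isDefEq.respectTransparency false
set_option linter.style.haveILetI false

noncomputable section

namespace Groth.Agent.OmegaLib

open Groth.Agent.QC Groth.Agent.ModDesc

variable {X S : Scheme.{u}} {f : X ⟶ S} {Ω : X.Modules} {d : OmegaSh.Der f Ω}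

/-- Sections over affine pieces, linearly. -/
theorem exists_linearEquiv (hd : OmegaSh.IsUniversal d) {U : X.Opens} {V : S.Opens} (e : U ≤ f ⁻¹ᵁ V)
    (hU : IsAffineOpen U) (hV : IsAffineOpen V) :
    letI : Algebra Γ(S, V) Γ(X, U) := (f.appLE V U e).hom.toAlgebra
    ∃ L : Γ(Ω, U) ≃ₗ[Γ(X, U)] Ω[Γ(X, U)⁄Γ(S, V)], ∀ a, L (d.app U a) = KaehlerDifferential.D _ _ a := by
  letI : Algebra Γ(S, V) Γ(X, U) := (f.appLE V U e).hom.toAlgebra
  obtain ⟨T, hT, hTd⟩ := exists_sectEquiv e hd hU hV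
  exact ⟨{ T with map_smul' := hT }, hTd⟩

theorem isFT_of_locallyOfFiniteType [LocallyOfFiniteType f] (hd : OmegaSh.IsUniversal d) : CohB1.IsFT Ω := by
  haveI : Ω.IsQuasicoherent := isQCoh_of_isUniversal hd
  refine isFT_iff_exists_hasFinGen.2 fun x => ?_
  obtain ⟨V, hV, U, hU, e, hx⟩ := exists_affine_pair f x
  letI : Algebra Γ(S, V) Γ(X, U) := (f.appLE V U e).hom.toAlgebra
  haveI : Algebra.FiniteType Γ(S, V) Γ(X, U) :=
    HasRingHomProperty.appLE @LocallyOfFiniteType f inferInstance ⟨V, hV⟩ ⟨U, hU⟩ e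
  obtain ⟨L, -⟩ := exists_linearEquiv hd e hU hV
  haveI := Module.Finite.equiv L.symm
  exact ⟨U, hx, hasFinGen_of_finite hU⟩

theorem isFP_of_locallyOfFinitePresentation [LocallyOfFinitePresentation f] (hd : OmegaSh.IsUniversal d) :
    CohB1.IsFP Ω := by
  haveI : Ω.IsQuasicoherent := isQCoh_of_isUniversal hd
  refine isFP_iff_exists_hasFinPres.2 fun x => ?_
  obtain ⟨V, hV, U, hU, e, hx⟩ := exists_affine_pair f x
  letI : Algebra Γ(S, V) Γ(X, U) := (f.appLE V U e).hom.toAlgebra
  haveI : Algebra.FinitePresentation Γ(S, V) Γ(X, U) :=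
    HasRingHomProperty.appLE @LocallyOfFinitePresentation f inferInstance ⟨V, hV⟩ ⟨U, hU⟩ e
  obtain ⟨L, -⟩ := exists_linearEquiv hd e hU hV
  haveI := Module.FinitePresentation.of_equiv L.symm
  exact ⟨U, hx, hasFinPres_of_finitePresentation hU⟩

/-- A family out of a module with a derivation is determined by its values on differentials. -/
lemma fam_app_d {F : X.Modules} (D : OmegaSh.Der f F) (d : OmegaSh.Der f Ω) {U : X.Opens} (hU : IsAffineOpen U)
    (Φ : Fam Ω F U) (h : ∀ a, Φ.f U le_rfl (d.app U a) = D.app U a) (P : X.Opens) (hP : P ≤ U) (a : Γ(X, P)) :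
    Φ.f P hP (d.app P a) = D.app P a := by
  refine section_eq_of_locally fun x hx => ?_
  obtain ⟨g, hg, hxg⟩ := hU.exists_basicOpen_le ⟨x, hx⟩ (hP hx)
  refine ⟨X.basicOpen g, hg, hxg, ?_⟩
  rw [Φ.nat, res_app, res_app]
  generalize resO X hg a = s
  haveI := hU.isLocalization_basicOpen g
  obtain ⟨⟨b, ⟨_, n, rfl⟩⟩, hs⟩ := IsLocalization.surj (Submonoid.powers g) s
  let ρ := resO X (X.basicOpen_le g)
  replace hs : s * ρ (g ^ n) = ρ b := hs
  have e : ∀ {M : X.Modules} (E : OmegaSh.Der f M), ρ (g ^ n) • E.app _ s =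
      res M (X.basicOpen_le g) (E.app U b) - s • res M (X.basicOpen_le g) (E.app U (g ^ n)) := by
    intro M E
    rw [res_app, res_app, eq_sub_iff_add_eq, ← hs, app_mul, add_comm]
  have hu : IsUnit (ρ (g ^ n)) := by
    rw [map_pow]
    exact (IsLocalization.Away.algebraMap_isUnit (S := Γ(X, X.basicOpen g)) g).pow n
  refine hu.smul_left_cancel.mp ?_
  rw [← map_smul, e d, map_sub, map_smul, ← Φ.nat _ _ (X.basicOpen_le g) le_rfl,
    ← Φ.nat _ _ (X.basicOpen_le g) le_rfl, h, h, e D]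

set_option maxHeartbeats 1600000 in
/-- The derivation into the conormal sheaf of the diagonal is universal. -/
theorem isUniversal_dOmega (f : X ⟶ S) [QuasiSeparated f] : OmegaSh.IsUniversal (OmegaSh.dOmega f) := by
  intro F D
  haveI : Coh.IsQCoh (Omega.sheaf f) := isQCoh_pullback _ (isQCoh_idealMod _)
  choose V hV U hU e hx using fun x : X => exists_affine_pair f x
  have hloc : ∀ x : X,
      Submodule.span Γ(X, U x) (Set.range fun a => OmegaSh.dSect f (U x) a) = ⊤ ∧
      ∃ Φ : Fam (Omega.sheaf f) F (U x), ∀ a, Φ.f (U x) le_rfl (OmegaSh.dSect f (U x) a) = D.app (U x) a := by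
    intro x
    letI : Algebra Γ(S, V x) Γ(X, U x) := (f.appLE (V x) (U x) (e x)).hom.toAlgebra
    have w : Spec.map (CommRingCat.ofHom (algebraMap Γ(S, V x) Γ(X, U x))) ≫ (hV x).fromSpec =
        (hU x).fromSpec ≫ f := by
      rw [RingHom.algebraMap_toAlgebra, CommRingCat.ofHom_hom, IsAffineOpen.SpecMap_appLE_fromSpec]
    obtain ⟨ψ, T, hψ, -, hT, hsmul, hTd⟩ := exists_sectEquiv_omega (R := Γ(S, V x)) (A := Γ(X, U x)) f
      (hV x).fromSpec (hU x).fromSpec w (U x) (image_fromSpec_top (hU x))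
    have hψid : ∀ a, ψ a = a := by
      intro a
      rw [hψ]
      show (Scheme.ΓSpecIso Γ(X, U x)).hom ((hU x).fromSpec.appLE (U x) ⊤ _ a) = a
      rw [Scheme.Hom.appLE, ConcreteCategory.comp_apply, (hU x).fromSpec_app_self,
        ConcreteCategory.comp_apply]
      rw [← ConcreteCategory.comp_apply (_ : _ ⟶ _) ((Spec Γ(X, U x)).presheaf.map _), ← Functor.map_comp,
        show (eqToHom (hU x).fromSpec_preimage_self).op ≫ _ = 𝟙 _ from Subsingleton.elim _ _,
        CategoryTheory.Functor.map_id]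
      exact Iso.inv_hom_id_apply _ _
    let L : Γ(Omega.sheaf f, U x) ≃ₗ[Γ(X, U x)] Ω[Γ(X, U x)⁄Γ(S, V x)] :=
      { AddEquiv.ofBijective T hT with map_smul' := fun a m => (hsmul a m).trans (by rw [hψid]; rfl) }
    have hLd : ∀ a, L (OmegaSh.dSect f (U x) a) = KaehlerDifferential.D _ _ a := fun a =>
      (hTd a).trans (by rw [hψid])
    refine ⟨?_, ?_⟩
    · refine Submodule.map_injective_of_injective (f := L.toLinearMap) L.injective ?_
      rw [Submodule.map_span, Submodule.map_top, LinearEquiv.range, ← Set.range_comp]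
      convert KaehlerDifferential.span_range_derivation Γ(S, V x) Γ(X, U x) using 2
      exact congrArg Set.range (funext fun a => hLd a)
    · letI : Module Γ(S, V x) Γ(F, U x) := Module.compHom _ (algebraMap Γ(S, V x) Γ(X, U x))
      haveI : IsScalarTower Γ(S, V x) Γ(X, U x) Γ(F, U x) := IsScalarTower.of_algebraMap_smul fun r m => rfl
      let δ : Derivation Γ(S, V x) Γ(X, U x) Γ(F, U x) :=
        Derivation.mk'
          { toFun := D.app (U x)
            map_add' := map_add _
            map_smul' := fun r m => by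
              rw [Algebra.smul_def, app_mul, RingHom.algebraMap_toAlgebra, app_appLE, smul_zero, add_zero]
              rfl }
          (app_mul D (U x))
      obtain ⟨Φ, hΦ⟩ := exists_fam (N := F) (hU x) (δ.liftKaehlerDifferential.comp L.toLinearMap)
      refine ⟨Φ, fun a => ?_⟩
      rw [hΦ]
      show δ.liftKaehlerDifferential (L _) = _
      rw [hLd, Derivation.liftKaehlerDifferential_comp_D]
      rfl
  choose hspan Φ hΦ using hloc
  obtain ⟨α, hα⟩ := exists_hom_of_fam U (fun x => ⟨x, hx x⟩) Φ fun i j x hxij => by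
    obtain ⟨g, hg, hxg⟩ := (hU i).exists_basicOpen_le (V := U i ⊓ U j) ⟨x, hxij⟩ hxij.1
    have hi : X.basicOpen g ≤ U i := X.basicOpen_le g
    have hj : X.basicOpen g ≤ U j := hg.trans inf_le_right
    refine ⟨X.basicOpen g, (hU i).basicOpen g,
      res (Omega.sheaf f) hi '' Set.range (fun a => OmegaSh.dSect f (U i) a), hi, hj, hxg, ?_, ?_⟩
    · exact eq_top_iff.mpr fun m _ => mem_span_basicOpen (hU i) g (hspan i) m
    · rintro _ ⟨_, ⟨a, rfl⟩, rfl⟩
      have hd : res (Omega.sheaf f) hi (OmegaSh.dSect f (U i) a) =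
          (OmegaSh.dOmega f).app (X.basicOpen g) (resO X hi a) := res_app (OmegaSh.dOmega f) hi a
      show (Φ i).f _ hi (res (Omega.sheaf f) hi (OmegaSh.dSect f (U i) a)) =
        (Φ j).f _ hj (res (Omega.sheaf f) hi (OmegaSh.dSect f (U i) a))
      rw [hd, fam_app_d D (OmegaSh.dOmega f) (hU i) (Φ i) (hΦ i) _ hi,
        fam_app_d D (OmegaSh.dOmega f) (hU j) (Φ j) (hΦ j) _ hj]
  refine ⟨α, der_ext fun O a => ?_, fun β hβ => Scheme.Modules.hom_ext _ _ fun O => ?_⟩
  · refine (postcomp_app _ _ O a).trans (section_eq_of_locally fun x hxO => ?_)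
    refine ⟨O ⊓ U x, inf_le_left, ⟨hxO, hx x⟩, ?_⟩
    rw [app_res, res_app, res_app, hα x _ inf_le_right,
      fam_app_d D (OmegaSh.dOmega f) (hU x) (Φ x) (hΦ x) _ inf_le_right]
  · ext s
    refine section_eq_of_locally fun x hxO => ⟨O ⊓ U x, inf_le_left, ⟨hxO, hx x⟩, ?_⟩
    rw [app_res, app_res]
    refine Fam.eq_of_agree (hU x) (Fam.ofHom β (U x)) (Fam.ofHom α (U x)) le_rfl le_rfl _ (hspan x) ?_ _
      inf_le_right _
    rintro _ ⟨a, rfl⟩
    show β.app (U x) _ = α.app (U x) _
    rw [hα x _ le_rfl, hΦ]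
    exact congrArg (fun E : OmegaSh.Der f F => E.app (U x) a) hβ

end Groth.Agent.OmegaLib
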