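import Groth.Agent.OmegaLib.FiniteType
import Groth.Agent.QC.Closure

/-!
# Canonical maps of differentials in coordinates
-/

universe u

open CategoryTheory CategoryTheory.Limits AlgebraicGeometry TopologicalSpace Opposite TensorProduct

set_option backward.isDefEq.respectTransparency false
set_option linter.style.haveILetI false

noncomputable section

namespace Groth.Agent.OmegaLib

open Groth.Agent.QC Groth.Agent.ModDesc

variable {X S X' S' : Scheme.{u}} {f : X ⟶ S} {f' : X' ⟶ S'} {h : X' ⟶ X}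
  {Ω : X.Modules} {Ω' : X'.Modules} {d : OmegaSh.Der f Ω} {d' : OmegaSh.Der f' Ω'}
  {c : (Scheme.Modules.pullback h).obj Ω ⟶ Ω'}

/-- The value of a compatible map on a pulled back differential. -/
lemma app_compat (hc : OmegaSh.IsDiffCompat h d d' c) {U : X.Opens} {U' : X'.Opens} (eh : U' ≤ h ⁻¹ᵁ U)
    (a : Γ(X, U)) :
    c.app U' (pullSectLE h Ω U U' eh (d.app U a)) = d'.app U' (h.appLE U U' eh a) := by
  rw [pullSectLE_apply, ← app_res, hc U a, res_app]
  rfl

set_option maxHeartbeats 1600000 in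
/-- A compatible map over affine pieces is the base change of the functoriality map of Kähler differentials. -/
theorem exists_coords (hd : OmegaSh.IsUniversal d) (hd' : OmegaSh.IsUniversal d')
    (hc : OmegaSh.IsDiffCompat h d d' c)
    {U : X.Opens} {V : S.Opens} {U' : X'.Opens} {V' : S'.Opens}
    (hU : IsAffineOpen U) (hV : IsAffineOpen V) (hU' : IsAffineOpen U') (hV' : IsAffineOpen V')
    (e : U ≤ f ⁻¹ᵁ V) (e' : U' ≤ f' ⁻¹ᵁ V') (eh : U' ≤ h ⁻¹ᵁ U)
    (eb : Γ(S, V) →+* Γ(S', V'))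
    (w : ∀ r, h.appLE U U' eh (f.appLE V U e r) = f'.appLE V' U' e' (eb r)) :
    letI : Algebra Γ(S, V) Γ(X, U) := (f.appLE V U e).hom.toAlgebra
    letI : Algebra Γ(S', V') Γ(X', U') := (f'.appLE V' U' e').hom.toAlgebra
    letI : Algebra Γ(X, U) Γ(X', U') := (h.appLE U U' eh).hom.toAlgebra
    letI : Algebra Γ(S, V) Γ(S', V') := eb.toAlgebra
    letI : Algebra Γ(S, V) Γ(X', U') := ((f'.appLE V' U' e').hom.comp eb).toAlgebra
    haveI : IsScalarTower Γ(S, V) Γ(S', V') Γ(X', U') := IsScalarTower.of_algebraMap_eq' rfl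
    haveI : IsScalarTower Γ(S, V) Γ(X, U) Γ(X', U') := IsScalarTower.of_algebraMap_eq fun r => (w r).symm
    ∃ (L₀ : Γ((Scheme.Modules.pullback h).obj Ω, U') ≃ₗ[Γ(X', U')] Γ(X', U') ⊗[Γ(X, U)] Ω[Γ(X, U)⁄Γ(S, V)])
      (L' : Γ(Ω', U') ≃ₗ[Γ(X', U')] Ω[Γ(X', U')⁄Γ(S', V')]),
      (∀ m, L' (c.app U' m) = LinearMap.liftBaseChange Γ(X', U')
        (KaehlerDifferential.map Γ(S, V) Γ(S', V') Γ(X, U) Γ(X', U')) (L₀ m)) ∧
      (∀ a, L₀ (pullSectLE h Ω U U' eh (d.app U a)) = 1 ⊗ₜ KaehlerDifferential.D _ _ a) ∧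
      (∀ a, L' (d'.app U' a) = KaehlerDifferential.D _ _ a) := by
  letI : Algebra Γ(S, V) Γ(X, U) := (f.appLE V U e).hom.toAlgebra
  letI : Algebra Γ(S', V') Γ(X', U') := (f'.appLE V' U' e').hom.toAlgebra
  letI : Algebra Γ(X, U) Γ(X', U') := (h.appLE U U' eh).hom.toAlgebra
  letI : Algebra Γ(S, V) Γ(S', V') := eb.toAlgebra
  letI : Algebra Γ(S, V) Γ(X', U') := ((f'.appLE V' U' e').hom.comp eb).toAlgebra
  haveI : IsScalarTower Γ(S, V) Γ(S', V') Γ(X', U') := IsScalarTower.of_algebraMap_eq' rfl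
  haveI : IsScalarTower Γ(S, V) Γ(X, U) Γ(X', U') := IsScalarTower.of_algebraMap_eq fun r => (w r).symm
  obtain ⟨L, hL⟩ := exists_linearEquiv hd e hU hV
  obtain ⟨L', hL'⟩ := exists_linearEquiv hd' e' hU' hV'
  haveI : Coh.IsQCoh Ω := isQCoh_of_isUniversal hd
  obtain ⟨Φ, hΦ⟩ := exists_bijective_liftBaseChange h Ω hU hU' eh
  let L₀ := Φ.symm ≪≫ₗ TensorProduct.AlgebraTensorModule.congr (LinearEquiv.refl Γ(X', U') Γ(X', U')) L
  have h₀ : ∀ m, L₀ (pullSectLE h Ω U U' eh m) = 1 ⊗ₜ L m := fun m => by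
    have : Φ.symm (pullSectLE h Ω U U' eh m) = 1 ⊗ₜ m := by
      rw [LinearEquiv.symm_apply_eq, hΦ]
    simp only [L₀, LinearEquiv.trans_apply, this]
    rfl
  refine ⟨L₀, L', ?_, fun a => by rw [h₀, hL], hL'⟩
  let ψ := LinearMap.liftBaseChange Γ(X', U') (KaehlerDifferential.map Γ(S, V) Γ(S', V') Γ(X, U) Γ(X', U'))
  let c' : Γ((Scheme.Modules.pullback h).obj Ω, U') →ₗ[Γ(X', U')] Ω[Γ(X', U')⁄Γ(S', V')] :=
    L'.toLinearMap.comp
      ({ toFun := c.app U', map_add' := map_add _, map_smul' := fun r x => Scheme.Modules.Hom.app_smul c r x } :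
        Γ((Scheme.Modules.pullback h).obj Ω, U') →ₗ[Γ(X', U')] Γ(Ω', U'))
  have key : c'.toAddMonoidHom = (ψ.comp L₀.toLinearMap).toAddMonoidHom := by
    refine ext_of_pullSectLE (g := h) (H := Ω) hU hU' eh _ _ fun r m => ?_
    show c' (r • pullSectLE h Ω U U' eh m) = ψ (L₀ (r • pullSectLE h Ω U U' eh m))
    rw [map_smul, map_smul, map_smul]
    congr 1
    rw [h₀]
    have hm : m ∈ Submodule.span Γ(X, U) (Set.range (d.app U)) := by rw [span_app hd e hU hV]; trivial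
    induction hm using Submodule.span_induction with
    | mem x hx =>
      obtain ⟨a, rfl⟩ := hx
      show L' (c.app U' (pullSectLE h Ω U U' eh (d.app U a))) = ψ (1 ⊗ₜ L (d.app U a))
      rw [app_compat hc, hL', hL, LinearMap.liftBaseChange_tmul, one_smul, KaehlerDifferential.map_D]
      rfl
    | zero => simp only [map_zero, TensorProduct.tmul_zero]
    | add x y _ _ hx hy => simp only [map_add, TensorProduct.tmul_add, hx, hy]
    | smul r x _ hx =>
      rw [pullSectLE_smul, map_smul, map_smul, TensorProduct.tmul_smul, ← algebraMap_smul Γ(X', U') r,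
        map_smul, hx]
      rfl
  exact fun m => DFunLike.congr_fun key m

end Groth.Agent.OmegaLib
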