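import Groth.Agent.OmegaLib.Exact
import Groth.Agent.InfLift.SmoothLift
import Groth.Agent.LocFree.Basic
import Groth.Agent.LocalDimBC.Smooth
import Groth.Agent.Conormal.Omega

/-!
# Differentials of formally unramified and formally smooth morphisms
-/

universe u

open CategoryTheory CategoryTheory.Limits AlgebraicGeometry TopologicalSpace Opposite TensorProduct

set_option backward.isDefEq.respectTransparency false
set_option linter.style.haveILetI false

noncomputable section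

namespace Groth.Agent.OmegaLib

open Groth.Agent.QC Groth.Agent.ModDesc

/-- Formal unramifiedness is local around the points of the source. -/
lemma formallyUnramified_of_exists {X Y : Scheme.{u}} (f : X ⟶ Y)
    (h : ∀ x : X, ∃ (V : Y.Opens) (U : X.Opens) (e : U ≤ f ⁻¹ᵁ V), IsAffineOpen V ∧ IsAffineOpen U ∧ x ∈ U ∧
      (f.appLE V U e).hom.FormallyUnramified) : FormallyUnramified f := by
  rw [HasRingHomProperty.iff_exists_appLE (P := @FormallyUnramified)
    (fun R S T _ _ _ _ r _ φ hφ => (RingHom.FormallyUnramified.holdsForLocalizationAway S r).comp hφ)]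
  intro x
  obtain ⟨V, U, e, hV, hU, hx, hf⟩ := h x
  exact ⟨⟨V, hV⟩, ⟨U, hU⟩, hx, e, hf⟩

section Zero

variable {X Y : Scheme.{u}} {f : X ⟶ Y} {Ω : X.Modules} {d : OmegaSh.Der f Ω}

theorem formallyUnramified_iff_isZero (hd : OmegaSh.IsUniversal d) : FormallyUnramified f ↔ IsZero Ω := by
  constructor
  · intro hf
    rw [IsZero.iff_id_eq_zero]
    refine hom_ext hd _ _ fun O s => section_eq_of_locally fun x hx => ?_
    obtain ⟨V, hV, hxV⟩ := exists_affine_mem (f x)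
    obtain ⟨_, ⟨(U : X.Opens), hU, rfl⟩, hxU, hUle⟩ := X.isBasis_affineOpens.exists_subset_of_mem_open
      (show x ∈ ((O ⊓ f ⁻¹ᵁ V : X.Opens) : Set X) from ⟨hx, hxV⟩) (O ⊓ f ⁻¹ᵁ V).2
    have e : U ≤ f ⁻¹ᵁ V := fun y hy => (hUle hy).2
    refine ⟨U, fun y hy => (hUle hy).1, hxU, ?_⟩
    letI : Algebra Γ(Y, V) Γ(X, U) := (f.appLE V U e).hom.toAlgebra
    haveI : Algebra.FormallyUnramified Γ(Y, V) Γ(X, U) := f.formallyUnramified_appLE hV hU e
    obtain ⟨T, -, -⟩ := exists_sectEquiv e hd hU hV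
    exact T.injective (Subsingleton.elim _ _)
  · intro hz
    refine formallyUnramified_of_exists f fun x => ?_
    obtain ⟨V, hV, U, hU, e, hx⟩ := exists_affine_pair f x
    refine ⟨V, U, e, hV, hU, hx, ?_⟩
    letI : Algebra Γ(Y, V) Γ(X, U) := (f.appLE V U e).hom.toAlgebra
    obtain ⟨T, -, -⟩ := exists_sectEquiv e hd hU hV
    haveI : Subsingleton Γ(Ω, U) := ⟨fun a b => by
      have h := (IsZero.iff_id_eq_zero Ω).mp hz
      have h2 := congr(($h).app U (a - b))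
      exact sub_eq_zero.mp h2⟩
    exact (Algebra.formallyUnramified_iff _ _).mpr T.symm.injective.subsingleton

end Zero

section Triangle

variable {X Y S : Scheme.{u}} {g : Y ⟶ S} {f : X ⟶ Y} {ΩY : Y.Modules} {dY : OmegaSh.Der g ΩY}
  {ΩX : X.Modules} {dX : OmegaSh.Der (f ≫ g) ΩX} {c : (Scheme.Modules.pullback f).obj ΩY ⟶ ΩX}

lemma tower_eq (f : X ⟶ Y) (g : Y ⟶ S) {W : S.Opens} {V : Y.Opens} {U : X.Opens} (e : V ≤ g ⁻¹ᵁ W)
    (eh : U ≤ f ⁻¹ᵁ V) : ((f ≫ g).appLE W U (eh.trans (f.preimage_mono e))).hom =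
      (f.appLE V U eh).hom.comp (g.appLE W V e).hom := by
  rw [← CommRingCat.hom_comp, Scheme.Hom.appLE_comp_appLE]

set_option maxHeartbeats 1600000 in
/-- Coordinates of the map of differentials of a triangle over a tower of affines. -/
theorem exists_coords_tower (hY : OmegaSh.IsUniversal dY) (hX : OmegaSh.IsUniversal dX)
    (hc : OmegaSh.IsDiffCompat f dY dX c)
    {W : S.Opens} {V : Y.Opens} {U : X.Opens} (hW : IsAffineOpen W) (hV : IsAffineOpen V) (hU : IsAffineOpen U)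
    (e : V ≤ g ⁻¹ᵁ W) (eh : U ≤ f ⁻¹ᵁ V) :
    letI : Algebra Γ(S, W) Γ(Y, V) := (g.appLE W V e).hom.toAlgebra
    letI : Algebra Γ(Y, V) Γ(X, U) := (f.appLE V U eh).hom.toAlgebra
    letI : Algebra Γ(S, W) Γ(X, U) := ((f ≫ g).appLE W U (eh.trans (f.preimage_mono e))).hom.toAlgebra
    haveI : IsScalarTower Γ(S, W) Γ(Y, V) Γ(X, U) :=
      IsScalarTower.of_algebraMap_eq' (tower_eq f g e eh)
    ∃ (L₀ : Γ((Scheme.Modules.pullback f).obj ΩY, U) ≃ₗ[Γ(X, U)] Γ(X, U) ⊗[Γ(Y, V)] Ω[Γ(Y, V)⁄Γ(S, W)])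
      (L' : Γ(ΩX, U) ≃ₗ[Γ(X, U)] Ω[Γ(X, U)⁄Γ(S, W)]),
      ∀ m, L' (c.app U m) = KaehlerDifferential.mapBaseChange Γ(S, W) Γ(Y, V) Γ(X, U) (L₀ m) := by
  have e' : U ≤ (f ≫ g) ⁻¹ᵁ W := eh.trans (f.preimage_mono e)
  have w : ∀ r, f.appLE V U eh (g.appLE W V e r) = (f ≫ g).appLE W U e' (RingHom.id Γ(S, W) r) := fun r =>
    (DFunLike.congr_fun (tower_eq f g e eh) r).symm
  letI : Algebra Γ(S, W) Γ(Y, V) := (g.appLE W V e).hom.toAlgebra
  letI : Algebra Γ(Y, V) Γ(X, U) := (f.appLE V U eh).hom.toAlgebra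
  letI : Algebra Γ(S, W) Γ(X, U) := ((f ≫ g).appLE W U e').hom.toAlgebra
  haveI : IsScalarTower Γ(S, W) Γ(Y, V) Γ(X, U) := IsScalarTower.of_algebraMap_eq fun r => (w r).symm
  obtain ⟨L₀, L', hL, -, -⟩ := exists_coords hY hX hc hV hW hU hW e e' eh (RingHom.id _) w
  refine ⟨L₀, L', fun m => ?_⟩
  rw [hL]
  induction L₀ m with
  | zero => simp
  | add a b ha hb => simp only [map_add, ha, hb]
  | tmul x y => rw [LinearMap.liftBaseChange_tmul, KaehlerDifferential.mapBaseChange_tmul]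

theorem formallyUnramified_iff_epi (hY : OmegaSh.IsUniversal dY) (hX : OmegaSh.IsUniversal dX)
    (hc : OmegaSh.IsDiffCompat f dY dX c) : FormallyUnramified f ↔ Epi c := by
  constructor
  · intro hf
    refine Conormal.epi_of_basis c (isBasisFam_tower f g) ?_
    rintro U ⟨W, V, hW, hV, hU, e, eh⟩
    obtain ⟨L₀, L', hL⟩ := exists_coords_tower hY hX hc hW hV hU e eh
    letI : Algebra Γ(S, W) Γ(Y, V) := (g.appLE W V e).hom.toAlgebra
    letI : Algebra Γ(Y, V) Γ(X, U) := (f.appLE V U eh).hom.toAlgebra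
    letI : Algebra Γ(S, W) Γ(X, U) := ((f ≫ g).appLE W U (eh.trans (f.preimage_mono e))).hom.toAlgebra
    haveI : IsScalarTower Γ(S, W) Γ(Y, V) Γ(X, U) :=
      IsScalarTower.of_algebraMap_eq' (tower_eq f g e eh)
    haveI : Algebra.FormallyUnramified Γ(Y, V) Γ(X, U) := f.formallyUnramified_appLE hV hU eh
    intro t
    obtain ⟨z, hz⟩ := (KaehlerDifferential.exact_mapBaseChange_map Γ(S, W) Γ(Y, V) Γ(X, U) (L' t)).mp
      (Subsingleton.elim _ _)
    exact ⟨L₀.symm z, L'.injective (by rw [hL, LinearEquiv.apply_symm_apply, hz])⟩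
  · intro hc'
    refine formallyUnramified_of_exists f fun x => ?_
    obtain ⟨U, ⟨W, V, hW, hV, hU, e, eh⟩, -, hxU⟩ := isBasisFam_tower f g ⊤ x trivial
    refine ⟨V, U, eh, hV, hU, hxU, ?_⟩
    obtain ⟨L₀, L', hL⟩ := exists_coords_tower hY hX hc hW hV hU e eh
    letI : Algebra Γ(S, W) Γ(Y, V) := (g.appLE W V e).hom.toAlgebra
    letI : Algebra Γ(Y, V) Γ(X, U) := (f.appLE V U eh).hom.toAlgebra
    letI : Algebra Γ(S, W) Γ(X, U) := ((f ≫ g).appLE W U (eh.trans (f.preimage_mono e))).hom.toAlgebra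
    haveI : IsScalarTower Γ(S, W) Γ(Y, V) Γ(X, U) :=
      IsScalarTower.of_algebraMap_eq' (tower_eq f g e eh)
    refine (Algebra.formallyUnramified_iff _ _).mpr ⟨fun a b => ?_⟩
    have key : ∀ w : Ω[Γ(X, U)⁄Γ(Y, V)], w = 0 := by
      intro w
      obtain ⟨z, rfl⟩ := KaehlerDifferential.map_surjective Γ(S, W) Γ(Y, V) Γ(X, U) w
      obtain ⟨m, hm⟩ := app_surjective_of_epi hU (isQCoh_pullback _ (isQCoh_of_isUniversal hY))
        (isQCoh_of_isUniversal hX) c (L'.symm z)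
      refine (KaehlerDifferential.exact_mapBaseChange_map Γ(S, W) Γ(Y, V) Γ(X, U) z).mpr ⟨L₀ m, ?_⟩
      rw [← hL, hm, LinearEquiv.apply_symm_apply]
    rw [key a, key b]

end Triangle

/-- The rings of a formally smooth morphism over affine opens are formally smooth. -/
theorem formallySmooth_appLE {X Y : Scheme.{u}} (f : X ⟶ Y) (hf : MoreMor.IsFormallySmoothHom f)
    {V : Y.Opens} {U : X.Opens} (hV : IsAffineOpen V) (hU : IsAffineOpen U) (e : U ≤ f ⁻¹ᵁ V) :
    letI : Algebra Γ(Y, V) Γ(X, U) := (f.appLE V U e).hom.toAlgebra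
    Algebra.FormallySmooth Γ(Y, V) Γ(X, U) := by
  letI : Algebra Γ(Y, V) Γ(X, U) := (f.appLE V U e).hom.toAlgebra
  refine Algebra.FormallySmooth.of_comp_surjective fun B _ _ I hI γ₀ => ?_
  let ψ : CommRingCat.of Γ(Y, V) ⟶ CommRingCat.of B := CommRingCat.ofHom (algebraMap Γ(Y, V) B)
  let γ : CommRingCat.of Γ(X, U) ⟶ CommRingCat.of (B ⧸ I) := CommRingCat.ofHom γ₀.toRingHom
  have hγ : f.appLE V U e ≫ γ = ψ ≫ CommRingCat.ofHom (Ideal.Quotient.mk I) :=
    CommRingCat.hom_ext (RingHom.ext fun r => γ₀.commutes r)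
  have hcomm : Spec.map (CommRingCat.ofHom (Ideal.Quotient.mk I)) ≫ Spec.map ψ ≫ hV.fromSpec =
      (Spec.map γ ≫ hU.fromSpec) ≫ f := by
    rw [Category.assoc, ← hV.SpecMap_appLE_fromSpec f hU e, ← Spec.map_comp_assoc, ← Spec.map_comp_assoc, hγ]
  obtain ⟨l, hl₁, hl₂⟩ := hf B I hI _ _ hcomm
  have hr : Set.range l ⊆ Set.range hU.fromSpec := by
    rintro _ ⟨z, rfl⟩
    obtain ⟨w, rfl⟩ := (InfLift.surjective_specQuot I hI).surj z
    exact ⟨Spec.map γ w, (congrArg (fun k => k w) hl₁).symm⟩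
  obtain ⟨φ, hφ⟩ : ∃ φ : CommRingCat.of Γ(X, U) ⟶ CommRingCat.of B,
      Spec.map φ = IsOpenImmersion.lift hU.fromSpec l hr := ⟨_, Spec.map_preimage _⟩
  have hlift : Spec.map φ ≫ hU.fromSpec = l := by rw [hφ]; exact IsOpenImmersion.lift_fac _ _ _
  have hψ : f.appLE V U e ≫ φ = ψ := by
    apply Spec.map_injective
    rw [← cancel_mono hV.fromSpec, Spec.map_comp, Category.assoc, hV.SpecMap_appLE_fromSpec f hU e,
      reassoc_of% hlift, hl₂]
  have hmk : φ ≫ CommRingCat.ofHom (Ideal.Quotient.mk I) = γ := by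
    apply Spec.map_injective
    rw [← cancel_mono hU.fromSpec, Spec.map_comp, Category.assoc, hlift, hl₁]
  exact ⟨{ φ.hom with commutes' := fun r => congrArg (fun k => k.hom r) hψ },
    AlgHom.ext fun r => congrArg (fun k => k.hom r) hmk⟩

section Mono

variable {X Y S : Scheme.{u}} {g : Y ⟶ S} {f : X ⟶ Y} {ΩY : Y.Modules} {dY : OmegaSh.Der g ΩY}
  {ΩX : X.Modules} {dX : OmegaSh.Der (f ≫ g) ΩX} {c : (Scheme.Modules.pullback f).obj ΩY ⟶ ΩX}

theorem mono_of_formallySmooth (hf : MoreMor.IsFormallySmoothHom f) (hY : OmegaSh.IsUniversal dY)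
    (hX : OmegaSh.IsUniversal dX) (hc : OmegaSh.IsDiffCompat f dY dX c) : Mono c := by
  refine Conormal.mono_of_basis c (isBasisFam_tower f g) ?_
  rintro U ⟨W, V, hW, hV, hU, e, eh⟩
  obtain ⟨L₀, L', hL⟩ := exists_coords_tower hY hX hc hW hV hU e eh
  letI : Algebra Γ(S, W) Γ(Y, V) := (g.appLE W V e).hom.toAlgebra
  letI : Algebra Γ(Y, V) Γ(X, U) := (f.appLE V U eh).hom.toAlgebra
  letI : Algebra Γ(S, W) Γ(X, U) := ((f ≫ g).appLE W U (eh.trans (f.preimage_mono e))).hom.toAlgebra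
  haveI : IsScalarTower Γ(S, W) Γ(Y, V) Γ(X, U) :=
    IsScalarTower.of_algebraMap_eq' (tower_eq f g e eh)
  haveI : Algebra.FormallySmooth Γ(Y, V) Γ(X, U) := formallySmooth_appLE f hf hV hU eh
  refine (injective_iff_map_eq_zero (c.app U).hom).mpr fun m hm => ?_
  have h0 : KaehlerDifferential.mapBaseChange Γ(S, W) Γ(Y, V) Γ(X, U) (L₀ m) = 0 := by
    rw [← hL, show c.app U m = 0 from hm, map_zero]
  obtain ⟨x, hx⟩ := (Algebra.H1Cotangent.exact_δ_mapBaseChange Γ(S, W) Γ(Y, V) Γ(X, U) _).mp h0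
  apply L₀.injective
  rw [map_zero, ← hx, Subsingleton.elim x 0, map_zero]

end Mono

/-- A retraction of the ideal of a formally smooth quotient. -/
lemma mem_sq_of_formallySmooth_quotient {R A B : Type u} [CommRing R] [CommRing A] [CommRing B] [Algebra R A]
    [Algebra R B] [Algebra A B] [IsScalarTower R A B] [Algebra.FormallySmooth R B]
    (hA : Function.Surjective (algebraMap A B)) (k : A) (hk : k ∈ RingHom.ker (algebraMap A B))
    (h : (1 : B) ⊗ₜ[A] KaehlerDifferential.D R A k = 0) : k ∈ RingHom.ker (algebraMap A B) ^ 2 := by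
  let J := RingHom.ker (algebraMap A B)
  let Q := A ⧸ J ^ 2
  let π : Q →ₐ[R] B := Ideal.Quotient.liftₐ (J ^ 2) (IsScalarTower.toAlgHom R A B)
    (fun a ha => Ideal.pow_le_self two_ne_zero ha)
  have hπ : Function.Surjective π := fun b => by
    obtain ⟨a, rfl⟩ := hA b
    exact ⟨Ideal.Quotient.mk _ a, rfl⟩
  let I' := J.map (Ideal.Quotient.mk (J ^ 2))
  have hker : RingHom.ker π.toRingHom ≤ I' := by
    intro x hx
    obtain ⟨a, rfl⟩ := Ideal.Quotient.mk_surjective x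
    exact Ideal.mem_map_of_mem _ hx
  have hsq : I' ^ 2 = ⊥ := by rw [← Ideal.map_pow, Ideal.map_quotient_self]
  have hmul : ∀ x y : Q, x ∈ I' → y ∈ I' → x * y = 0 := fun x y hx hy => by
    have := Ideal.mul_mem_mul hx hy
    rw [← pow_two, hsq, Ideal.mem_bot] at this
    exact this
  let σ := Algebra.FormallySmooth.liftOfSurjective (AlgHom.id R B) π hπ
    ⟨2, le_bot_iff.mp ((Ideal.pow_right_mono hker 2).trans hsq.le)⟩
  have hσ : ∀ b, π (σ b) = b := fun b => Algebra.FormallySmooth.liftOfSurjective_apply _ _ _ _ b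
  let δf : A →ₗ[R] Q := (IsScalarTower.toAlgHom R A Q).toLinearMap -
    (σ.comp (IsScalarTower.toAlgHom R A B)).toLinearMap
  have hδ : ∀ a, δf a = Ideal.Quotient.mk (J ^ 2) a - σ (algebraMap A B a) := fun a => rfl
  have hδI : ∀ a, δf a ∈ I' := fun a => hker (by
    show π (δf a) = 0
    rw [hδ, map_sub, hσ]
    exact sub_self _)
  let δ : Derivation R A Q := Derivation.mk' δf fun a b => by
    have h2 := hmul _ _ (hδI a) (hδI b)
    rw [hδ, hδ] at h2
    rw [hδ, hδ, hδ]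
    simp only [Algebra.smul_def, Ideal.Quotient.algebraMap_eq, map_mul]
    linear_combination -h2
  have hl : ∀ w, δ.liftKaehlerDifferential w ∈ I' := by
    intro w
    have hw : w ∈ Submodule.span A (Set.range (KaehlerDifferential.D R A)) := by
      rw [KaehlerDifferential.span_range_derivation]; trivial
    induction hw using Submodule.span_induction with
    | mem y hy =>
      obtain ⟨a, rfl⟩ := hy
      rw [Derivation.liftKaehlerDifferential_comp_D]
      exact hδI a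
    | zero => simp
    | add x y _ _ hx hy => rw [map_add]; exact Ideal.add_mem _ hx hy
    | smul r x _ hx => rw [map_smul, Algebra.smul_def]; exact Ideal.mul_mem_left _ _ hx
  have hmem : KaehlerDifferential.D R A k ∈ J • (⊤ : Submodule A Ω[A⁄R]) := by
    let e : (A ⧸ J) ≃ₐ[A] B := Ideal.quotientKerAlgEquivOfSurjective (f := Algebra.ofId A B) hA
    let E := (TensorProduct.congr e.toLinearEquiv (LinearEquiv.refl A Ω[A⁄R])).symm ≪≫ₗ
      TensorProduct.quotTensorEquivQuotSMul Ω[A⁄R] J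
    have hE := congrArg E h
    simp only [E, LinearEquiv.trans_apply, TensorProduct.congr_symm_tmul, map_zero] at hE
    rw [show e.toLinearEquiv.symm 1 = Ideal.Quotient.mk J 1 from (map_one e.symm)] at hE
    simp [TensorProduct.quotTensorEquivQuotSMul_mk_tmul, Submodule.Quotient.mk_eq_zero] at hE
    exact hE
  have h0 : δ.liftKaehlerDifferential (KaehlerDifferential.D R A k) = 0 := by
    refine Submodule.smul_induction_on hmem (fun a ha w _ => ?_)
      (fun x y hx hy => by rw [map_add, hx, hy, add_zero])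
    rw [map_smul, Algebra.smul_def]
    exact hmul _ _ (Ideal.mem_map_of_mem _ ha) (hl w)
  rw [Derivation.liftKaehlerDifferential_comp_D] at h0
  have h1 : δ k = Ideal.Quotient.mk (J ^ 2) k - σ (algebraMap A B k) := hδ k
  rw [h0, RingHom.mem_ker.mp hk, map_zero, sub_zero] at h1
  exact Ideal.Quotient.eq_zero_iff_mem.mp h1.symm

section ConormalMono

variable {X' X Y : Scheme.{u}} {j : X' ⟶ X} {f : X ⟶ Y} {Ω : X.Modules} {d : OmegaSh.Der f Ω}
  {φ : Omega.conormal j ⟶ (Scheme.Modules.pullback j).obj Ω}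

set_option maxHeartbeats 1600000 in
theorem mono_conormalDiff [IsImmersion j] [QuasiCompact j] (hf : MoreMor.IsFormallySmoothHom (j ≫ f))
    (hd : OmegaSh.IsUniversal d) (hφ : OmegaSh.IsConormalDiff j d φ) : Mono φ := by
  refine Conormal.mono_of_basis φ (Conormal.isBasisFam_chartOver f j) ?_
  rintro _ ⟨W, V, hW, hV, e, rfl⟩
  have e' : j ⁻¹ᵁ V ≤ (j ≫ f) ⁻¹ᵁ W := j.preimage_mono e
  letI : Algebra Γ(Y, W) Γ(X, V) := (f.appLE W V e).hom.toAlgebra
  letI : Algebra Γ(X, V) Γ(X', j ⁻¹ᵁ V) := (j.appLE V (j ⁻¹ᵁ V) le_rfl).hom.toAlgebra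
  letI : Algebra Γ(Y, W) Γ(X', j ⁻¹ᵁ V) := ((j ≫ f).appLE W (j ⁻¹ᵁ V) e').hom.toAlgebra
  haveI : IsScalarTower Γ(Y, W) Γ(X, V) Γ(X', j ⁻¹ᵁ V) := IsScalarTower.of_algebraMap_eq fun r => by
    show (j ≫ f).appLE W (j ⁻¹ᵁ V) e' r = j.appLE V (j ⁻¹ᵁ V) le_rfl (f.appLE W V e r)
    rw [← ConcreteCategory.comp_apply, Scheme.Hom.appLE_comp_appLE]
  haveI : Algebra.FormallySmooth Γ(Y, W) Γ(X', j ⁻¹ᵁ V) := formallySmooth_appLE (j ≫ f) hf hW hV.preimage e'
  have halg : algebraMap Γ(X, V) Γ(X', j ⁻¹ᵁ V) = (j.app V).hom := by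
    rw [RingHom.algebraMap_toAlgebra, Scheme.Hom.app_eq_appLE]
  have hsurj : Function.Surjective (algebraMap Γ(X, V) Γ(X', j ⁻¹ᵁ V)) := by rw [halg]; exact hV.surjective
  haveI : Coh.IsQCoh Ω := isQCoh_of_isUniversal hd
  obtain ⟨Φ, hΦ⟩ := exists_bijective_liftBaseChange j Ω hV.affine hV.preimage le_rfl
  obtain ⟨L, hL⟩ := exists_linearEquiv hd e hV.affine hW
  refine (injective_iff_map_eq_zero (φ.app (j ⁻¹ᵁ V)).hom).mpr fun m hm => ?_
  obtain ⟨s, rfl⟩ := Conormal.conormalSect_surjective j hV m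
  have h1 : Φ (1 ⊗ₜ d.app V (OmegaSh.idealSect j.ker V s)) = 0 := by
    rw [hΦ, pullSectLE_apply, res_self]
    exact (hφ V s).symm.trans hm
  have h2 : (1 : Γ(X', j ⁻¹ᵁ V)) ⊗ₜ[Γ(X, V)] KaehlerDifferential.D Γ(Y, W) Γ(X, V)
      (OmegaSh.idealSect j.ker V s) = 0 := by
    rw [← hL]
    have h3 := (LinearEquiv.map_eq_zero_iff Φ).mp h1
    have h4 := congrArg (LinearMap.lTensor Γ(X', j ⁻¹ᵁ V) L.toLinearMap) h3
    rwa [map_zero, LinearMap.lTensor_tmul] at h4
  have hk : OmegaSh.idealSect j.ker V s ∈ RingHom.ker (algebraMap Γ(X, V) Γ(X', j ⁻¹ᵁ V)) := by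
    rw [halg]; exact Conormal.app_idealSect j V s
  have hsq := mem_sq_of_formallySmooth_quotient hsurj _ hk h2
  rw [halg] at hsq
  exact (Conormal.conormalSect_eq_zero_iff j hV s).mpr hsq

end ConormalMono

section LocFree

variable {X Y : Scheme.{u}} {f : X ⟶ Y} {Ω : X.Modules} {d : OmegaSh.Der f Ω}

theorem isFinLocFree_of_formallySmooth (hf : MoreMor.IsFormallySmoothHom f) [LocallyOfFiniteType f]
    (hd : OmegaSh.IsUniversal d) : FlatMod.IsFinLocFree Ω := by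
  refine LocFree.isFinLocFree_of_affine_projective (isQCoh_of_isUniversal hd) fun x => ?_
  obtain ⟨V, hV, U, hU, e, hx⟩ := exists_affine_pair f x
  letI : Algebra Γ(Y, V) Γ(X, U) := (f.appLE V U e).hom.toAlgebra
  haveI : Algebra.FormallySmooth Γ(Y, V) Γ(X, U) := formallySmooth_appLE f hf hV hU e
  haveI : Algebra.FiniteType Γ(Y, V) Γ(X, U) :=
    HasRingHomProperty.appLE @LocallyOfFiniteType f inferInstance ⟨V, hV⟩ ⟨U, hU⟩ e
  obtain ⟨L, -⟩ := exists_linearEquiv hd e hU hV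
  haveI : Module.Finite Γ(X, U) Γ(Ω, U) := Module.Finite.equiv L.symm
  haveI : Module.Projective Γ(X, U) Γ(Ω, U) := Module.Projective.of_equiv L.symm
  exact ⟨U, hU, hx, Module.finitePresentation_of_projective _ _, inferInstance⟩

/-- Free sections of prescribed rank over an affine open trivialise a quasi-coherent module. -/
theorem exists_iso_free_of_basis {M : X.Modules} [hM : M.IsQuasicoherent] {U : X.Opens} (hU : IsAffineOpen U)
    {n : ℕ} (b : Module.Basis (ULift.{u} (Fin n)) Γ(X, U) Γ(M, U)) :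
    Nonempty (M.restrict U.ι ≅ FlatMod.freeMod (↑U) n) := by
  classical
  haveI : (M.restrict hU.fromSpec).IsQuasicoherent := isQCoh_restrict hU.fromSpec hM
  let e2 : (modulesSpecToSheaf.obj (M.restrict hU.fromSpec)).presheaf.obj (op ⊤) ≅
      ModuleCat.of Γ(X, U) (ULift.{u} (Fin n) →₀ Γ(X, U)) :=
    ((topEquiv hU M).trans b.repr).toModuleIso
  let e3 : M.restrict hU.fromSpec ≅ SheafOfModules.free.{u} (ULift.{u} (Fin n)) :=
    (isoTildeΓ (M.restrict hU.fromSpec)).symm ≪≫ (tilde.functor _).mapIso e2 ≪≫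
      tildeFinsupp (R := Γ(X, U)) (ULift.{u} (Fin n))
  let e4 : SheafOfModules.free.{u} (R := (Spec Γ(X, U)).ringCatSheaf) (ULift.{u} (Fin n)) ≅
      FlatMod.freeMod (Spec Γ(X, U)) n :=
    Sigma.whiskerEquiv (g := fun _ : Fin n => Coh.structureModule (Spec Γ(X, U))) Equiv.ulift
      fun _ => Iso.refl _
  exact ⟨(fromSpecIso hU M).symm ≪≫
    (Scheme.Modules.restrictFunctor hU.isoSpec.hom).mapIso (e3 ≪≫ e4) ≪≫
    (Scheme.Modules.restrictFunctorIsoPullback hU.isoSpec.hom).app _ ≪≫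
    Groth.Agent.DerPerf.pullFreeIso hU.isoSpec.hom n⟩

theorem exists_free_rank_fibreDimAt [Smooth f] (hd : OmegaSh.IsUniversal d) (x : X) :
    ∃ (U : X.Opens) (n : ℕ), x ∈ U ∧ Nonempty (Ω.restrict U.ι ≅ FlatMod.freeMod (↑U) n) ∧
      FlatMor.fibreDimAt f x = (n : WithBot ℕ∞) := by
  obtain ⟨V, hV, U, hU, hxU, e, hss⟩ := Smooth.exists_isStandardSmooth f x
  letI : Algebra Γ(Y, V) Γ(X, U) := (f.appLE V U e).hom.toAlgebra
  haveI : Algebra.IsStandardSmooth Γ(Y, V) Γ(X, U) := hss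
  obtain ⟨ι, σ, hσ, hι, ⟨P⟩⟩ := Algebra.IsStandardSmooth.out (R := Γ(Y, V)) (S := Γ(X, U))
  haveI : Algebra.IsStandardSmoothOfRelativeDimension P.dimension Γ(Y, V) Γ(X, U) :=
    ⟨ι, σ, hσ, hι, P, rfl⟩
  obtain ⟨z, hz⟩ : x ∈ Set.range hU.fromSpec := hU.range_fromSpec.ge hxU
  haveI : Nontrivial Γ(X, U) := ⟨⟨0, 1, fun h => z.isPrime.ne_top
    ((Ideal.eq_top_iff_one _).mpr (h ▸ z.asIdeal.zero_mem))⟩⟩
  obtain ⟨L, -⟩ := exists_linearEquiv hd e hU hV
  haveI : Module.Finite Γ(X, U) Γ(Ω, U) := Module.Finite.equiv L.symm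
  haveI : Module.Free Γ(X, U) Γ(Ω, U) := Module.Free.of_equiv L.symm
  have hrank : Module.finrank Γ(X, U) Γ(Ω, U) = P.dimension := by
    rw [L.finrank_eq]
    exact Module.finrank_eq_of_rank_eq
      (Algebra.IsStandardSmoothOfRelativeDimension.rank_kaehlerDifferential P.dimension)
  haveI : Ω.IsQuasicoherent := isQCoh_of_isUniversal hd
  refine ⟨U, P.dimension, hxU, exists_iso_free_of_basis hU
    ((Module.finBasisOfFinrankEq Γ(X, U) Γ(Ω, U) hrank).reindex Equiv.ulift.symm), ?_⟩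
  rw [← hz, ← LocalDimBC.fibreDimAt_openImmersion_comp hU.fromSpec f z,
    ← IsAffineOpen.SpecMap_appLE_fromSpec f hV hU e, ← LocalDimBC.fibreDimAt_comp_openImmersion]
  exact LocalDimBC.fibreDimAt_Spec_of_isStandardSmooth P.dimension (R := Γ(Y, V)) (A := Γ(X, U)) z

end LocFree

end Groth.Agent.OmegaLib
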