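import Groth.Agent.OmegaLib.Smooth
import Mathlib.RingTheory.Smooth.StandardSmoothOfFree

/-!
# The rank of differentials of smooth morphisms, and the conormal sheaf of a smooth subscheme
-/

universe u

open CategoryTheory CategoryTheory.Limits AlgebraicGeometry TopologicalSpace Opposite TensorProduct

set_option backward.isDefEq.respectTransparency false
set_option linter.style.haveILetI false

noncomputable section

namespace Groth.Agent.OmegaLib

open Groth.Agent.QC Groth.Agent.ModDesc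

/-- For a smooth algebra the rank of the differentials is the dimension of the fibre. -/
theorem fibreDimAt_Spec_eq_rankAtStalk {R A : Type u} [CommRing R] [CommRing A] [Algebra R A]
    [Algebra.Smooth R A] (p : PrimeSpectrum A) :
    FlatMor.fibreDimAt (Spec.map (CommRingCat.ofHom (algebraMap R A))) p =
      (Module.rankAtStalk (R := A) Ω[A⁄R] p : WithBot ℕ∞) := by
  haveI : Algebra.IsSmoothAt R p.asIdeal := inferInstance
  obtain ⟨g, hg, hss⟩ := Algebra.IsSmoothAt.exists_notMem_isStandardSmooth R p.asIdeal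
  let Ag := Localization.Away g
  obtain ⟨ι, σ, hσ, hι, ⟨P⟩⟩ := hss.out
  haveI : Algebra.IsStandardSmoothOfRelativeDimension P.dimension R Ag := ⟨ι, σ, hσ, hι, P, rfl⟩
  obtain ⟨p', hp'⟩ : p ∈ Set.range (PrimeSpectrum.comap (algebraMap A Ag)) := by
    rw [PrimeSpectrum.localization_away_comap_range Ag g]
    exact hg
  haveI : Nontrivial Ag := ⟨⟨0, 1, fun h => p'.isPrime.ne_top
    ((Ideal.eq_top_iff_one _).mpr (h ▸ p'.asIdeal.zero_mem))⟩⟩
  haveI : Algebra.FormallyEtale A Ag := .of_isLocalization (Submonoid.powers g)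
  let e := KaehlerDifferential.tensorKaehlerEquivOfFormallyEtale R A Ag
  haveI : Algebra.IsStandardSmooth R Ag := hss
  have h1 : Module.rankAtStalk (R := A) Ω[A⁄R] p = P.dimension := by
    rw [← hp', ← Module.rankAtStalk_baseChange (S := Ag), Module.rankAtStalk_eq_of_equiv e,
      Module.rankAtStalk_eq_finrank_of_free]
    exact Module.finrank_eq_of_rank_eq
      (Algebra.IsStandardSmoothOfRelativeDimension.rank_kaehlerDifferential P.dimension)
  rw [h1]
  haveI : IsOpenImmersion (Spec.map (CommRingCat.ofHom (algebraMap A Ag))) :=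
    IsOpenImmersion.of_isLocalization g
  have h2 := LocalDimBC.fibreDimAt_Spec_of_isStandardSmooth P.dimension (R := R) (A := Ag) p'
  rw [show Spec.map (CommRingCat.ofHom (algebraMap R Ag)) =
      Spec.map (CommRingCat.ofHom (algebraMap A Ag)) ≫ Spec.map (CommRingCat.ofHom (algebraMap R A)) from by
    rw [← Spec.map_comp, ← CommRingCat.ofHom_comp, ← IsScalarTower.algebraMap_eq],
    LocalDimBC.fibreDimAt_openImmersion_comp] at h2
  rw [← h2]
  exact congrArg (FlatMor.fibreDimAt _) hp'.symm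

/-- The same for a smooth morphism over affine opens. -/
theorem fibreDimAt_eq_rankAtStalk {X Y : Scheme.{u}} (f : X ⟶ Y) [Smooth f] {V : Y.Opens} {U : X.Opens}
    (hV : IsAffineOpen V) (hU : IsAffineOpen U) (e : U ≤ f ⁻¹ᵁ V) (z : PrimeSpectrum Γ(X, U)) :
    letI : Algebra Γ(Y, V) Γ(X, U) := (f.appLE V U e).hom.toAlgebra
    FlatMor.fibreDimAt f (hU.fromSpec z) = (Module.rankAtStalk (R := Γ(X, U)) Ω[Γ(X, U)⁄Γ(Y, V)] z : WithBot ℕ∞) := by
  letI : Algebra Γ(Y, V) Γ(X, U) := (f.appLE V U e).hom.toAlgebra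
  haveI : Algebra.Smooth Γ(Y, V) Γ(X, U) := f.smooth_appLE hV hU e
  rw [← LocalDimBC.fibreDimAt_openImmersion_comp hU.fromSpec f z,
    ← IsAffineOpen.SpecMap_appLE_fromSpec f hV hU e, ← LocalDimBC.fibreDimAt_comp_openImmersion]
  exact fibreDimAt_Spec_eq_rankAtStalk z

section SmoothSub

variable {X' X Y : Scheme.{u}} {f : X ⟶ Y} {j : X' ⟶ X}

set_option maxHeartbeats 1600000 in
/-- Over a chart the conormal module of a smooth subscheme is projective, with the expected rank. -/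
theorem chart_split [Smooth f] [Smooth (j ≫ f)] [QuasiCompact j] {W : Y.Opens} {V : X.Opens}
    (hW : IsAffineOpen W) (hV : Conormal.IsChart j V) (e : V ≤ f ⁻¹ᵁ W) :
    Module.Finite Γ(X', j ⁻¹ᵁ V) Γ(Omega.conormal j, j ⁻¹ᵁ V) ∧
      Module.Projective Γ(X', j ⁻¹ᵁ V) Γ(Omega.conormal j, j ⁻¹ᵁ V) ∧
      ∀ z : PrimeSpectrum Γ(X', j ⁻¹ᵁ V),
        FlatMor.fibreDimAt f (j (hV.preimage.fromSpec z)) =
          FlatMor.fibreDimAt (j ≫ f) (hV.preimage.fromSpec z) +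
            (Module.rankAtStalk (R := Γ(X', j ⁻¹ᵁ V)) Γ(Omega.conormal j, j ⁻¹ᵁ V) z : WithBot ℕ∞) := by
  have e' : j ⁻¹ᵁ V ≤ (j ≫ f) ⁻¹ᵁ W := j.preimage_mono e
  letI : Algebra Γ(Y, W) Γ(X, V) := (f.appLE W V e).hom.toAlgebra
  letI : Algebra Γ(X, V) Γ(X', j ⁻¹ᵁ V) := (j.appLE V (j ⁻¹ᵁ V) le_rfl).hom.toAlgebra
  letI : Algebra Γ(Y, W) Γ(X', j ⁻¹ᵁ V) := ((j ≫ f).appLE W (j ⁻¹ᵁ V) e').hom.toAlgebra
  haveI : IsScalarTower Γ(Y, W) Γ(X, V) Γ(X', j ⁻¹ᵁ V) := IsScalarTower.of_algebraMap_eq fun r => by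
    show (j ≫ f).appLE W (j ⁻¹ᵁ V) e' r = j.appLE V (j ⁻¹ᵁ V) le_rfl (f.appLE W V e r)
    rw [← ConcreteCategory.comp_apply, Scheme.Hom.appLE_comp_appLE]
  haveI : Algebra.Smooth Γ(Y, W) Γ(X, V) := f.smooth_appLE hW hV.affine e
  haveI : Algebra.Smooth Γ(Y, W) Γ(X', j ⁻¹ᵁ V) := (j ≫ f).smooth_appLE hW hV.preimage e'
  have halg : algebraMap Γ(X, V) Γ(X', j ⁻¹ᵁ V) = (j.app V).hom := by
    rw [RingHom.algebraMap_toAlgebra, Scheme.Hom.app_eq_appLE]
  have hsurj : Function.Surjective (algebraMap Γ(X, V) Γ(X', j ⁻¹ᵁ V)) := by rw [halg]; exact hV.surjective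
  haveI : Module.Finite Γ(X, V) Ω[Γ(X, V)⁄Γ(Y, W)] := inferInstance
  haveI : Module.Projective Γ(X, V) Ω[Γ(X, V)⁄Γ(Y, W)] := inferInstance
  haveI : Module.Finite Γ(X', j ⁻¹ᵁ V) Ω[Γ(X', j ⁻¹ᵁ V)⁄Γ(Y, W)] := inferInstance
  haveI : Module.Projective Γ(X', j ⁻¹ᵁ V) Ω[Γ(X', j ⁻¹ᵁ V)⁄Γ(Y, W)] := inferInstance
  let f₀ : Γ(ClSub.idealMod j.ker, V) →+ Γ(X', j ⁻¹ᵁ V) ⊗[Γ(X, V)] Ω[Γ(X, V)⁄Γ(Y, W)] :=
    AddMonoidHom.mk' (fun s => 1 ⊗ₜ KaehlerDifferential.D Γ(Y, W) Γ(X, V) (OmegaSh.idealSect j.ker V s))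
      fun a b => by rw [map_add, map_add, TensorProduct.tmul_add]
  have hf₀ : ∀ a s, f₀ (a • s) = j.app V a • f₀ s := by
    intro a s
    have h0 : algebraMap Γ(X, V) Γ(X', j ⁻¹ᵁ V) (OmegaSh.idealSect j.ker V s) = 0 :=
      (DFunLike.congr_fun halg _).trans (Conormal.app_idealSect j V s)
    show (1 : Γ(X', j ⁻¹ᵁ V)) ⊗ₜ[Γ(X, V)] KaehlerDifferential.D Γ(Y, W) Γ(X, V)
        (OmegaSh.idealSect j.ker V (a • s)) = j.app V a • ((1 : Γ(X', j ⁻¹ᵁ V)) ⊗ₜ[Γ(X, V)]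
          KaehlerDifferential.D Γ(Y, W) Γ(X, V) (OmegaSh.idealSect j.ker V s))
    rw [Conormal.idealSect_smul, Derivation.leibniz, TensorProduct.tmul_add, ← TensorProduct.smul_tmul,
      ← TensorProduct.smul_tmul, ← Algebra.algebraMap_eq_smul_one, ← Algebra.algebraMap_eq_smul_one, h0,
      TensorProduct.zero_tmul, add_zero, TensorProduct.smul_tmul', smul_eq_mul, mul_one, halg]
  obtain ⟨F, hF⟩ := Conormal.exists_linearMap j hV f₀ hf₀
  have hF' : ∀ s, F (OmegaSh.conormalSect j V s) =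
      1 ⊗ₜ KaehlerDifferential.D Γ(Y, W) Γ(X, V) (OmegaSh.idealSect j.ker V s) := hF
  have hinj : Function.Injective F := by
    refine (injective_iff_map_eq_zero F).mpr fun m hm => ?_
    obtain ⟨s, rfl⟩ := Conormal.conormalSect_surjective j hV m
    rw [hF'] at hm
    have hk : OmegaSh.idealSect j.ker V s ∈ RingHom.ker (algebraMap Γ(X, V) Γ(X', j ⁻¹ᵁ V)) :=
      (DFunLike.congr_fun halg _).trans (Conormal.app_idealSect j V s)
    have hsq := mem_sq_of_formallySmooth_quotient hsurj _ hk hm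
    rw [halg] at hsq
    exact (Conormal.conormalSect_eq_zero_iff j hV s).mpr hsq
  let mb := KaehlerDifferential.mapBaseChange Γ(Y, W) Γ(X, V) Γ(X', j ⁻¹ᵁ V)
  have hexact : Function.Exact F mb := by
    intro t
    rw [(KaehlerDifferential.exact_kerCotangentToTensor_mapBaseChange Γ(Y, W) Γ(X, V) Γ(X', j ⁻¹ᵁ V) hsurj) t]
    constructor
    · rintro ⟨y, rfl⟩
      obtain ⟨x, rfl⟩ := Ideal.toCotangent_surjective _ y
      obtain ⟨s, hs⟩ := Conormal.exists_idealSect j V x.1 ((DFunLike.congr_fun halg x.1).symm.trans x.2)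
      exact ⟨OmegaSh.conormalSect j V s, by rw [hF', hs]; rfl⟩
    · rintro ⟨m, rfl⟩
      obtain ⟨s, rfl⟩ := Conormal.conormalSect_surjective j hV m
      refine ⟨Ideal.toCotangent _ ⟨OmegaSh.idealSect j.ker V s,
        (DFunLike.congr_fun halg _).trans (Conormal.app_idealSect j V s)⟩, ?_⟩
      rw [KaehlerDifferential.kerCotangentToTensor_toCotangent, hF']
  obtain ⟨l, hl⟩ := Module.projective_lifting_property mb LinearMap.id
    (KaehlerDifferential.mapBaseChange_surjective Γ(Y, W) Γ(X, V) Γ(X', j ⁻¹ᵁ V) hsurj)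
  obtain ⟨E, hE, -⟩ := hexact.splitSurjectiveEquiv hinj ⟨l, hl⟩
  haveI : Module.Finite Γ(X', j ⁻¹ᵁ V) Γ(Omega.conormal j, j ⁻¹ᵁ V) :=
    Module.Finite.of_surjective ((LinearMap.fst _ _ _).comp E.toLinearMap)
      (Prod.fst_surjective.comp E.surjective)
  haveI : Module.Projective Γ(X', j ⁻¹ᵁ V) Γ(Omega.conormal j, j ⁻¹ᵁ V) :=
    Module.Projective.of_split (E.symm.toLinearMap.comp (LinearMap.inl _ _ _))
      ((LinearMap.fst _ _ _).comp E.toLinearMap) (LinearMap.ext fun m => by simp)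
  refine ⟨inferInstance, inferInstance, fun z => ?_⟩
  have hj : j (hV.preimage.fromSpec z) = hV.affine.fromSpec (z.comap (algebraMap Γ(X, V) Γ(X', j ⁻¹ᵁ V))) := by
    rw [← Scheme.Hom.comp_apply, ← IsAffineOpen.SpecMap_appLE_fromSpec j hV.affine hV.preimage le_rfl]
    rfl
  rw [hj, fibreDimAt_eq_rankAtStalk f hW hV.affine e, fibreDimAt_eq_rankAtStalk (j ≫ f) hW hV.preimage e',
    ← Module.rankAtStalk_baseChange (S := Γ(X', j ⁻¹ᵁ V)), Module.rankAtStalk_eq_of_equiv E,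
    Module.rankAtStalk_prod, Pi.add_apply, Nat.cast_add, add_comm]

/-- The conormal sheaf of a smooth subscheme is locally free of the expected rank. -/
theorem conormal_locFree_rank [Smooth f] [Smooth (j ≫ f)] [IsImmersion j] [QuasiCompact j] (x : X') :
    ∃ (U : X'.Opens) (n : ℕ), x ∈ U ∧ Nonempty ((Omega.conormal j).restrict U.ι ≅ FlatMod.freeMod (↑U) n) ∧
      FlatMor.fibreDimAt f (j x) = FlatMor.fibreDimAt (j ≫ f) x + (n : WithBot ℕ∞) := by
  obtain ⟨U₀, ⟨W, V, hW, hV, e, rfl⟩, -, hxU⟩ := Conormal.isBasisFam_chartOver f j ⊤ x trivial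
  obtain ⟨hfin, hproj, -⟩ := chart_split hW hV e
  let p := (hV.preimage.primeIdealOf ⟨x, hxU⟩).asIdeal
  haveI : Module.FinitePresentation Γ(X', j ⁻¹ᵁ V) Γ(Omega.conormal j, j ⁻¹ᵁ V) :=
    Module.finitePresentation_of_projective _ _
  haveI : Module.Free (Localization.AtPrime p) (LocalizedModule p.primeCompl Γ(Omega.conormal j, j ⁻¹ᵁ V)) :=
    Module.free_of_flat_of_isLocalRing
  obtain ⟨r, hr, hfree⟩ := Module.FinitePresentation.exists_free_localizedModule_powers p.primeCompl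
    (LocalizedModule.mkLinearMap p.primeCompl Γ(Omega.conormal j, j ⁻¹ᵁ V)) (Localization.AtPrime p)
  haveI := hfree.1
  haveI : (Omega.conormal j).IsQuasicoherent := Conormal.isQCoh_conormal j
  obtain ⟨hfree', hfin'⟩ := LocFree.free_finite_basicOpen (Conormal.isQCoh_conormal j) hV.preimage r
  obtain ⟨r', hr'⟩ := hV.surjective r
  have hpre : j ⁻¹ᵁ X.basicOpen r' = X'.basicOpen r := by
    rw [Scheme.preimage_basicOpen]
    exact congrArg X'.basicOpen hr'
  have hV' := hV.of_le (hV.affine.basicOpen r') (X.basicOpen_le r')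
  have e₁ : X.basicOpen r' ≤ f ⁻¹ᵁ W := (X.basicOpen_le r').trans e
  have hxD : x ∈ j ⁻¹ᵁ X.basicOpen r' := by
    rw [hpre]
    have hz : hV.preimage.primeIdealOf ⟨x, hxU⟩ ∈ hV.preimage.fromSpec ⁻¹ᵁ X'.basicOpen r := by
      rw [hV.preimage.fromSpec_preimage_basicOpen]
      exact hr
    have h : hV.preimage.fromSpec (hV.preimage.primeIdealOf ⟨x, hxU⟩) = x :=
      hV.preimage.fromSpec_primeIdealOf ⟨x, hxU⟩
    have hz' : hV.preimage.fromSpec (hV.preimage.primeIdealOf ⟨x, hxU⟩) ∈ X'.basicOpen r := hz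
    rwa [h] at hz'
  rw [← hpre] at hfree' hfin'
  obtain ⟨hfin₁, -, hrank⟩ := chart_split hW hV' e₁
  obtain ⟨z, hz⟩ : x ∈ Set.range hV'.preimage.fromSpec := hV'.preimage.range_fromSpec.ge hxD
  haveI : Nontrivial Γ(X', j ⁻¹ᵁ X.basicOpen r') := ⟨⟨0, 1, fun h => z.isPrime.ne_top
    ((Ideal.eq_top_iff_one _).mpr (h ▸ z.asIdeal.zero_mem))⟩⟩
  refine ⟨j ⁻¹ᵁ X.basicOpen r', Module.finrank Γ(X', j ⁻¹ᵁ X.basicOpen r')
    Γ(Omega.conormal j, j ⁻¹ᵁ X.basicOpen r'), hxD, exists_iso_free_of_basis hV'.preimage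
    ((Module.finBasis _ _).reindex Equiv.ulift.symm), ?_⟩
  have h := hrank z
  rw [Module.rankAtStalk_eq_finrank_of_free, hz] at h
  exact h

end SmoothSub

end Groth.Agent.OmegaLib
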