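import Groth.Agent.OmegaLib.BaseChange
import Mathlib.RingTheory.Etale.Kaehler
import Mathlib.AlgebraicGeometry.Morphisms.Etale

/-!
# Differentials along étale maps
-/

universe u

open CategoryTheory CategoryTheory.Limits AlgebraicGeometry TopologicalSpace Opposite TensorProduct

set_option backward.isDefEq.respectTransparency false
set_option linter.style.haveILetI false

noncomputable section

namespace Groth.Agent.OmegaLib

open Groth.Agent.QC Groth.Agent.ModDesc

/-- The functoriality map along an étale algebra over an unramified base change is bijective. -/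
lemma bijective_map_of_etale (R R' A A' : Type u) [CommRing R] [CommRing R'] [CommRing A] [CommRing A']
    [Algebra R A] [Algebra R' A'] [Algebra A A'] [Algebra R R'] [Algebra R A'] [IsScalarTower R R' A']
    [IsScalarTower R A A'] [Algebra.FormallyEtale A A'] [Algebra.FormallyUnramified R R'] :
    Function.Bijective (LinearMap.liftBaseChange A' (KaehlerDifferential.map R R' A A')) := by
  let e := KaehlerDifferential.tensorKaehlerEquivOfFormallyEtale R A A'
  have h2 : Function.Bijective (KaehlerDifferential.map R R' A' A') := by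
    refine ⟨LinearMap.ker_eq_bot.mp (le_bot_iff.mp fun x hx => ?_), KaehlerDifferential.map_surjective R R' A'⟩
    obtain ⟨z, rfl⟩ := (KaehlerDifferential.exact_mapBaseChange_map R R' A' x).mp hx
    rw [Subsingleton.elim z 0, map_zero]
    exact Submodule.zero_mem _
  have key : ∀ z, LinearMap.liftBaseChange A' (KaehlerDifferential.map R R' A A') z =
      KaehlerDifferential.map R R' A' A' (KaehlerDifferential.mapBaseChange R A A' z) := by
    intro z
    induction z with
    | zero => simp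
    | add a b ha hb => simp only [map_add, ha, hb]
    | tmul x y =>
      have hy : y ∈ Submodule.span A (Set.range (KaehlerDifferential.D R A)) := by
        rw [KaehlerDifferential.span_range_derivation]; trivial
      induction hy using Submodule.span_induction generalizing x with
      | mem w hw =>
        obtain ⟨a, rfl⟩ := hw
        rw [LinearMap.liftBaseChange_tmul, KaehlerDifferential.mapBaseChange_tmul, KaehlerDifferential.map_D,
          KaehlerDifferential.map_D, map_smul, KaehlerDifferential.map_D]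
        rfl
      | zero => simp
      | add a b _ _ ha hb => rw [TensorProduct.tmul_add, map_add, map_add, map_add, ha, hb]
      | smul r a _ ha => rw [← TensorProduct.smul_tmul, ha]
  rw [show (LinearMap.liftBaseChange A' (KaehlerDifferential.map R R' A A') : _ → _) = _ from funext key]
  exact h2.comp (by convert! e.bijective using 1)

set_option maxHeartbeats 1600000 in
/-- The canonical map along étale morphisms is an isomorphism. -/
theorem isIso_of_etale {X S X' S' : Scheme.{u}} {p : X ⟶ S} {p' : X' ⟶ S'} {f : X' ⟶ X} {g : S' ⟶ S}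
    [Etale f] [FormallyUnramified g] (hsq : f ≫ p = p' ≫ g)
    {Ω : X.Modules} {d : OmegaSh.Der p Ω} (hd : OmegaSh.IsUniversal d)
    {Ω' : X'.Modules} {d' : OmegaSh.Der p' Ω'} (hd' : OmegaSh.IsUniversal d')
    {c : (Scheme.Modules.pullback f).obj Ω ⟶ Ω'} (hc : OmegaSh.IsDiffCompat f d d' c) : IsIso c := by
  have hex : ∀ x' : X', ∃ (V : S.Opens) (V' : S'.Opens) (U : X.Opens) (U' : X'.Opens),
      IsAffineOpen V ∧ IsAffineOpen V' ∧ IsAffineOpen U ∧ IsAffineOpen U' ∧
      V' ≤ g ⁻¹ᵁ V ∧ U ≤ p ⁻¹ᵁ V ∧ U' ≤ f ⁻¹ᵁ U ⊓ p' ⁻¹ᵁ V' ∧ x' ∈ U' := by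
    intro x'
    obtain ⟨V, hV, hxV⟩ := exists_affine_mem (g (p' x'))
    obtain ⟨_, ⟨(V' : S'.Opens), hV', rfl⟩, hxV', hV'le⟩ := S'.isBasis_affineOpens.exists_subset_of_mem_open
      (show p' x' ∈ ((g ⁻¹ᵁ V : S'.Opens) : Set S') from hxV) (g ⁻¹ᵁ V).2
    have hxp : f x' ∈ p ⁻¹ᵁ V := by
      show (f ≫ p) x' ∈ V
      rw [hsq]
      exact hxV
    obtain ⟨_, ⟨(U : X.Opens), hU, rfl⟩, hxU, hUle⟩ := X.isBasis_affineOpens.exists_subset_of_mem_open
      (show f x' ∈ ((p ⁻¹ᵁ V : X.Opens) : Set X) from hxp) (p ⁻¹ᵁ V).2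
    obtain ⟨_, ⟨(U' : X'.Opens), hU', rfl⟩, hxU', hU'le⟩ := X'.isBasis_affineOpens.exists_subset_of_mem_open
      (show x' ∈ ((f ⁻¹ᵁ U ⊓ p' ⁻¹ᵁ V' : X'.Opens) : Set X') from ⟨hxU, hxV'⟩) (f ⁻¹ᵁ U ⊓ p' ⁻¹ᵁ V').2
    exact ⟨V, V', U, U', hV, hV', hU, hU', hV'le, hUle, hU'le, hxU'⟩
  choose V V' U U' hV hV' hU hU' eg e hle hmem using hex
  refine isIso_of_affine_cover (isQCoh_pullback _ (isQCoh_of_isUniversal hd)) (isQCoh_of_isUniversal hd') c
    U' hU' (fun x' => ⟨x', hmem x'⟩) fun x' => ?_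
  have eh : U' x' ≤ f ⁻¹ᵁ U x' := (hle x').trans inf_le_left
  have ef : U' x' ≤ p' ⁻¹ᵁ V' x' := (hle x').trans inf_le_right
  have w : ∀ r, f.appLE (U x') (U' x') eh (p.appLE (V x') (U x') (e x') r) =
      p'.appLE (V' x') (U' x') ef (g.appLE (V x') (V' x') (eg x') r) := by
    intro r
    have key : ∀ (k : X' ⟶ S) (h' : U' x' ≤ k ⁻¹ᵁ V x'), f ≫ p = k →
        f.appLE (U x') (U' x') eh (p.appLE (V x') (U x') (e x') r) = k.appLE (V x') (U' x') h' r := by
      rintro k h' rfl
      rw [← ConcreteCategory.comp_apply, Scheme.Hom.appLE_comp_appLE]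
    rw [key (p' ≫ g) (ef.trans (p'.preimage_mono (eg x'))) hsq, ← ConcreteCategory.comp_apply,
      Scheme.Hom.appLE_comp_appLE]
  letI : Algebra Γ(S, V x') Γ(X, U x') := (p.appLE (V x') (U x') (e x')).hom.toAlgebra
  letI : Algebra Γ(S', V' x') Γ(X', U' x') := (p'.appLE (V' x') (U' x') ef).hom.toAlgebra
  letI : Algebra Γ(X, U x') Γ(X', U' x') := (f.appLE (U x') (U' x') eh).hom.toAlgebra
  letI : Algebra Γ(S, V x') Γ(S', V' x') := (g.appLE (V x') (V' x') (eg x')).hom.toAlgebra
  letI : Algebra Γ(S, V x') Γ(X', U' x') :=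
    ((p'.appLE (V' x') (U' x') ef).hom.comp (g.appLE (V x') (V' x') (eg x')).hom).toAlgebra
  haveI : IsScalarTower Γ(S, V x') Γ(S', V' x') Γ(X', U' x') := IsScalarTower.of_algebraMap_eq' rfl
  haveI : IsScalarTower Γ(S, V x') Γ(X, U x') Γ(X', U' x') := IsScalarTower.of_algebraMap_eq fun r => (w r).symm
  haveI : Algebra.Etale Γ(X, U x') Γ(X', U' x') := f.etale_appLE (hU x') (hU' x') eh
  haveI : Algebra.FormallyUnramified Γ(S, V x') Γ(S', V' x') :=
    g.formallyUnramified_appLE (hV x') (hV' x') (eg x')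
  obtain ⟨L₀, L', hL, -, -⟩ := exists_coords hd hd' hc (hU x') (hV x') (hU' x') (hV' x') (e x') ef eh
    (g.appLE (V x') (V' x') (eg x')).hom w
  refine (Function.Bijective.of_comp_iff' L'.bijective _).mp ?_
  show Function.Bijective (fun m => L' (c.app _ m))
  rw [show (fun m => L' (c.app _ m)) = _ ∘ L₀ from funext hL]
  exact (bijective_map_of_etale _ _ _ _).comp L₀.bijective

end Groth.Agent.OmegaLib
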