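import Groth.Agent.OmegaLib.Coords
import Groth.Agent.Conormal.Seq

/-!
# The sequence of differentials of a composite
-/

universe u

open CategoryTheory CategoryTheory.Limits AlgebraicGeometry TopologicalSpace Opposite TensorProduct

set_option backward.isDefEq.respectTransparency false
set_option linter.style.haveILetI false

noncomputable section

namespace Groth.Agent.OmegaLib

open Groth.Agent.QC Groth.Agent.ModDesc

/-- Morphisms out of a pullback of differentials are determined on pulled back differentials. -/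
lemma pullback_hom_ext {X S X' : Scheme.{u}} {f : X ⟶ S} {h : X' ⟶ X} {Ω : X.Modules} {d : OmegaSh.Der f Ω}
    (hd : OmegaSh.IsUniversal d) {N : X'.Modules} (φ φ' : (Scheme.Modules.pullback h).obj Ω ⟶ N)
    (hh : ∀ U s, φ.app (h ⁻¹ᵁ U) (OmegaSh.pullSect h Ω U (d.app U s)) =
      φ'.app (h ⁻¹ᵁ U) (OmegaSh.pullSect h Ω U (d.app U s))) : φ = φ' :=
  ((Scheme.Modules.pullbackPushforwardAdjunction h).homEquiv Ω N).injective
    (hom_ext hd _ _ fun U s => by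
      simpa only [Adjunction.homEquiv_unit, Scheme.Modules.Hom.comp_app, ConcreteCategory.comp_apply] using! hh U s)

variable {X Y Z : Scheme.{u}} {f : X ⟶ Y} {g : Y ⟶ Z} {ΩY : Y.Modules} {dY : OmegaSh.Der g ΩY}
  {ΩX : X.Modules} {dX : OmegaSh.Der (f ≫ g) ΩX} {ΩXY : X.Modules} {dXY : OmegaSh.Der f ΩXY}
  {c₁ : (Scheme.Modules.pullback f).obj ΩY ⟶ ΩX} {c₂ : (Scheme.Modules.pullback (𝟙 X)).obj ΩX ⟶ ΩXY}

lemma second_app (hc₂ : OmegaSh.IsDiffCompat (𝟙 X) dX dXY c₂) (U : X.Opens) (s : Γ(X, U)) :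
    ((Scheme.Modules.pullbackId X).inv.app ΩX ≫ c₂).app U (dX.app U s) = dXY.app U s :=
  (Conormal.idComp_app c₂ U _).trans (hc₂ U s)

theorem comp_eq_zero (hY : OmegaSh.IsUniversal dY) (hc₁ : OmegaSh.IsDiffCompat f dY dX c₁)
    (hc₂ : OmegaSh.IsDiffCompat (𝟙 X) dX dXY c₂) :
    c₁ ≫ (Scheme.Modules.pullbackId X).inv.app ΩX ≫ c₂ = 0 := by
  refine pullback_hom_ext hY _ _ fun U s => ?_
  rw [Scheme.Modules.Hom.comp_app, ConcreteCategory.comp_apply]
  refine ((congrArg _ (hc₁ U s)).trans (second_app hc₂ _ _)).trans ?_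
  rw [app_comp]
  rfl

lemma isBasisFam_tower (f : X ⟶ Y) (g : Y ⟶ Z) :
    Conormal.IsBasisFam {U | ∃ (W : Z.Opens) (V : Y.Opens), IsAffineOpen W ∧ IsAffineOpen V ∧
      IsAffineOpen U ∧ V ≤ g ⁻¹ᵁ W ∧ U ≤ f ⁻¹ᵁ V} := by
  intro O x hx
  obtain ⟨W, hW, hxW⟩ := exists_affine_mem (g (f x))
  obtain ⟨_, ⟨(V : Y.Opens), hV, rfl⟩, hxV, hVW⟩ := Y.isBasis_affineOpens.exists_subset_of_mem_open
    (show f x ∈ ((g ⁻¹ᵁ W : Y.Opens) : Set Y) from hxW) (g ⁻¹ᵁ W).2
  obtain ⟨_, ⟨(U : X.Opens), hU, rfl⟩, hxU, hUle⟩ := X.isBasis_affineOpens.exists_subset_of_mem_open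
    (show x ∈ ((O ⊓ f ⁻¹ᵁ V : X.Opens) : Set X) from ⟨hx, hxV⟩) (O ⊓ f ⁻¹ᵁ V).2
  exact ⟨U, ⟨W, V, hW, hV, hU, hVW, fun y hy => (hUle hy).2⟩, fun y hy => (hUle hy).1, hxU⟩

set_option maxHeartbeats 1600000 in
theorem surjective_exact_tower (hY : OmegaSh.IsUniversal dY) (hX : OmegaSh.IsUniversal dX)
    (hXY : OmegaSh.IsUniversal dXY) (hc₁ : OmegaSh.IsDiffCompat f dY dX c₁)
    (hc₂ : OmegaSh.IsDiffCompat (𝟙 X) dX dXY c₂)
    {W : Z.Opens} {V : Y.Opens} {U : X.Opens} (hW : IsAffineOpen W) (hV : IsAffineOpen V) (hU : IsAffineOpen U)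
    (e : V ≤ g ⁻¹ᵁ W) (eh : U ≤ f ⁻¹ᵁ V) :
    Function.Surjective (((Scheme.Modules.pullbackId X).inv.app ΩX ≫ c₂).app U) ∧
      ∀ t, ((Scheme.Modules.pullbackId X).inv.app ΩX ≫ c₂).app U t = 0 → ∃ m, c₁.app U m = t := by
  have e' : U ≤ (f ≫ g) ⁻¹ᵁ W := eh.trans (f.preimage_mono e)
  have w : ∀ r, f.appLE V U eh (g.appLE W V e r) = (f ≫ g).appLE W U e' (RingHom.id Γ(Z, W) r) := fun r => by
    rw [← ConcreteCategory.comp_apply, Scheme.Hom.appLE_comp_appLE]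
    rfl
  letI : Algebra Γ(Z, W) Γ(Y, V) := (g.appLE W V e).hom.toAlgebra
  letI : Algebra Γ(Y, V) Γ(X, U) := (f.appLE V U eh).hom.toAlgebra
  letI : Algebra Γ(Z, W) Γ(X, U) := ((f ≫ g).appLE W U e').hom.toAlgebra
  haveI : IsScalarTower Γ(Z, W) Γ(Y, V) Γ(X, U) := IsScalarTower.of_algebraMap_eq fun r => (w r).symm
  obtain ⟨L₀, L', hL, -, hL'⟩ := exists_coords hY hX hc₁ hV hW hU hW e e' eh (RingHom.id _) w
  obtain ⟨L'', hL''⟩ := exists_linearEquiv hXY eh hU hV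
  have hmb : ∀ m, L' (c₁.app U m) = KaehlerDifferential.mapBaseChange Γ(Z, W) Γ(Y, V) Γ(X, U) (L₀ m) := by
    intro m
    rw [hL]
    induction L₀ m with
    | zero => simp
    | add a b ha hb => simp only [map_add, ha, hb]
    | tmul x y => rw [LinearMap.liftBaseChange_tmul, KaehlerDifferential.mapBaseChange_tmul]
  have hm2 : ∀ t, L'' (((Scheme.Modules.pullbackId X).inv.app ΩX ≫ c₂).app U t) =
      KaehlerDifferential.map Γ(Z, W) Γ(Y, V) Γ(X, U) Γ(X, U) (L' t) := by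
    intro t
    have ht : t ∈ Submodule.span Γ(X, U) (Set.range (dX.app U)) := by rw [span_app hX e' hU hW]; trivial
    induction ht using Submodule.span_induction with
    | mem y hy =>
      obtain ⟨a, rfl⟩ := hy
      rw [second_app hc₂, hL'', hL', KaehlerDifferential.map_D]
      rfl
    | zero => simp only [map_zero]
    | add a b _ _ ha hb => simp only [map_add, ha, hb]
    | smul r a _ ha => rw [Scheme.Modules.Hom.app_smul, map_smul, ha, map_smul, map_smul]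
  refine ⟨fun y => ?_, fun t ht => ?_⟩
  · obtain ⟨z, hz⟩ := KaehlerDifferential.map_surjective Γ(Z, W) Γ(Y, V) Γ(X, U) (L'' y)
    exact ⟨L'.symm z, L''.injective (by rw [hm2, LinearEquiv.apply_symm_apply, hz])⟩
  · have h0 : KaehlerDifferential.map Γ(Z, W) Γ(Y, V) Γ(X, U) Γ(X, U) (L' t) = 0 := by
      rw [← hm2, ht, map_zero]
    obtain ⟨z, hz⟩ := (KaehlerDifferential.exact_mapBaseChange_map Γ(Z, W) Γ(Y, V) Γ(X, U) _).mp h0
    exact ⟨L₀.symm z, L'.injective (by rw [hmb, LinearEquiv.apply_symm_apply, hz])⟩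

/-- The sequence of differentials of a composite. -/
theorem exact_of_comp (hY : OmegaSh.IsUniversal dY) (hX : OmegaSh.IsUniversal dX) (hXY : OmegaSh.IsUniversal dXY)
    (hc₁ : OmegaSh.IsDiffCompat f dY dX c₁) (hc₂ : OmegaSh.IsDiffCompat (𝟙 X) dX dXY c₂) :
    Epi c₂ ∧ imageSubobject c₁ = kernelSubobject ((Scheme.Modules.pullbackId X).inv.app ΩX ≫ c₂) := by
  constructor
  · haveI : Epi ((Scheme.Modules.pullbackId X).inv.app ΩX ≫ c₂) :=
      Conormal.epi_of_basis _ (isBasisFam_tower f g) (by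
        rintro U ⟨W, V, hW, hV, hU, e, eh⟩
        exact (surjective_exact_tower hY hX hXY hc₁ hc₂ hW hV hU e eh).1)
    exact epi_of_epi ((Scheme.Modules.pullbackId X).inv.app ΩX) c₂
  · refine Conormal.image_eq_kernel c₁ _ (comp_eq_zero hY hc₁ hc₂)
      (Conormal.exact_of_basis _ (isBasisFam_tower f g) ?_)
    rintro U ⟨W, V, hW, hV, hU, e, eh⟩
    exact (surjective_exact_tower hY hX hXY hc₁ hc₂ hW hV hU e eh).2

end Groth.Agent.OmegaLib
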