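import Groth.Agent.QC.OmegaAffineSect
import Groth.Agent.ModDesc.Fam
import Groth.Prelude.Def_Omega3
import Groth.Prelude.Def_Omega4

/-!
# Derivations on affine opens
-/

universe u

open CategoryTheory CategoryTheory.Limits AlgebraicGeometry TopologicalSpace Opposite TensorProduct

set_option backward.isDefEq.respectTransparency false
set_option linter.style.haveILetI false

noncomputable section

namespace Groth.Agent.OmegaLib

open Groth.Agent.QC Groth.Agent.ModDesc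

variable {X Y : Scheme.{u}} {f : X ⟶ Y} {F F' : X.Modules}

lemma app_mul (D : OmegaSh.Der f F) (U : X.Opens) (a b : Γ(X, U)) :
    D.app U (a * b) = a • D.app U b + b • D.app U a := D.d_mul (X := op U) a b

lemma res_app (D : OmegaSh.Der f F) {V U : X.Opens} (h : V ≤ U) (a : Γ(X, U)) :
    res F h (D.app U a) = D.app V (resO X h a) := (D.d_map (homOfLE h).op a).symm

lemma app_comp (D : OmegaSh.Der f F) (V : Y.Opens) (c : Γ(Y, V)) : D.app (f ⁻¹ᵁ V) (f.app V c) = 0 :=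
  D.d_app (X := op V) c

lemma app_appLE (D : OmegaSh.Der f F) {U : X.Opens} {V : Y.Opens} (e : U ≤ f ⁻¹ᵁ V) (c : Γ(Y, V)) :
    D.app U (f.appLE V U e c) = 0 := by
  have h := res_app D e (f.app V c)
  rw [app_comp, map_zero] at h
  exact h.symm

lemma postcomp_app (D : OmegaSh.Der f F) (α : F ⟶ F') (U : X.Opens) (a : Γ(X, U)) :
    OmegaSh.Der.app (D.postcomp α.val) U a = α.app U (D.app U a) := rfl

lemma der_ext {D D' : OmegaSh.Der f F} (h : ∀ U a, D.app U a = D'.app U a) : D = D' :=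
  PresheafOfModules.Derivation.ext (funext fun U => AddMonoidHom.ext fun a => h U.unop a)

/-- Derivations are determined on an affine open by their values there. -/
lemma app_eq_of_affine (D D' : OmegaSh.Der f F) {U : X.Opens} (hU : IsAffineOpen U)
    (h : ∀ a, D.app U a = D'.app U a) (O : X.Opens) (hO : O ≤ U) (a : Γ(X, O)) : D.app O a = D'.app O a := by
  refine section_eq_of_locally fun x hx => ?_
  obtain ⟨g, hg, hxg⟩ := hU.exists_basicOpen_le ⟨x, hx⟩ (hO hx)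
  refine ⟨X.basicOpen g, hg, hxg, ?_⟩
  rw [res_app, res_app]
  generalize resO X hg a = s
  haveI := hU.isLocalization_basicOpen g
  obtain ⟨⟨b, ⟨_, n, rfl⟩⟩, hs⟩ := IsLocalization.surj (Submonoid.powers g) s
  let ρ := resO X (X.basicOpen_le g)
  replace hs : s * ρ (g ^ n) = ρ b := hs
  have e : ∀ E : OmegaSh.Der f F, ρ (g ^ n) • E.app _ s =
      res F (X.basicOpen_le g) (E.app U b) - s • res F (X.basicOpen_le g) (E.app U (g ^ n)) := by
    intro E
    rw [res_app, res_app, eq_sub_iff_add_eq, ← hs, app_mul, add_comm]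
  have hu : IsUnit (ρ (g ^ n)) := by
    rw [map_pow]
    exact (IsLocalization.Away.algebraMap_isUnit (S := Γ(X, X.basicOpen g)) g).pow n
  refine hu.smul_left_cancel.mp ?_
  rw [e D, e D', h, h]

/-! ### Affine schemes -/

variable {S : Scheme.{u}} [IsAffine X] [IsAffine S] (g : X ⟶ S)

/-- The global sections of `Omega.sheaf g` for a morphism of affine schemes. -/
theorem exists_sectEquiv_top :
    letI : Algebra Γ(S, ⊤) Γ(X, ⊤) := g.appTop.hom.toAlgebra
    ∃ T : Γ(Omega.sheaf g, ⊤) ≃+ Ω[Γ(X, ⊤)⁄Γ(S, ⊤)],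
      (∀ (a : Γ(X, ⊤)) m, T (a • m) = a • T m) ∧
      ∀ a, T (OmegaSh.dSect g ⊤ a) = KaehlerDifferential.D _ _ a := by
  letI : Algebra Γ(S, ⊤) Γ(X, ⊤) := g.appTop.hom.toAlgebra
  have w : Spec.map (CommRingCat.ofHom (algebraMap Γ(S, ⊤) Γ(X, ⊤))) ≫ S.isoSpec.inv = X.isoSpec.inv ≫ g :=
    Scheme.isoSpec_inv_naturality g
  obtain ⟨ψ, T, hψ, -, hT, hsmul, hd⟩ :=
    exists_sectEquiv_omega (R := Γ(S, ⊤)) (A := Γ(X, ⊤)) g S.isoSpec.inv X.isoSpec.inv w ⊤ (by simp)
  have hψid : ∀ a, ψ a = a := by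
    intro a
    rw [hψ]
    show (Scheme.ΓSpecIso Γ(X, ⊤)).hom (X.isoSpec.inv.appLE ⊤ ⊤ _ a) = a
    have h1 : X.isoSpec.inv.appLE ⊤ ⊤ le_top = X.isoSpec.inv.appTop := by
      rw [Scheme.Hom.appTop, Scheme.Hom.app_eq_appLE]; rfl
    rw [h1]
    have h2 : X.isoSpec.hom.appTop ≫ (𝟙 _ : Γ(X, ⊤) ⟶ _) = (Scheme.ΓSpecIso Γ(X, ⊤)).hom := by
      rw [Category.comp_id]
      exact Scheme.toSpecΓ_appTop X
    have h3 : X.isoSpec.inv.appTop ≫ X.isoSpec.hom.appTop = 𝟙 _ := by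
      rw [← Scheme.Hom.comp_appTop, Iso.hom_inv_id, Scheme.Hom.id_appTop]
    rw [Category.comp_id] at h2
    rw [h2] at h3
    exact ConcreteCategory.congr_hom h3 a
  refine ⟨AddEquiv.ofBijective T hT, fun a m => ?_, fun a => ?_⟩
  · show T (a • m) = a • T m
    rw [hsmul, hψid]
  · show T _ = _
    rw [hd, hψid]

/-- A derivation on global sections extends to the structure sheaf. -/
theorem exists_der_of_top (F : X.Modules) (δ : Γ(X, ⊤) →+ Γ(F, ⊤))
    (hmul : ∀ a b : Γ(X, ⊤), δ (a * b) = a • δ b + b • δ a) (hc : ∀ c : Γ(S, ⊤), δ (g.appTop c) = 0) :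
    ∃ α : Omega.sheaf g ⟶ F, ∀ a, α.app ⊤ (OmegaSh.dSect g ⊤ a) = δ a := by
  letI : Algebra Γ(S, ⊤) Γ(X, ⊤) := g.appTop.hom.toAlgebra
  letI : Module Γ(S, ⊤) Γ(F, ⊤) := Module.compHom _ g.appTop.hom
  haveI : IsScalarTower Γ(S, ⊤) Γ(X, ⊤) Γ(F, ⊤) := IsScalarTower.of_algebraMap_smul fun r x => rfl
  obtain ⟨T, hT, hTd⟩ := exists_sectEquiv_top g
  let δ' : Derivation Γ(S, ⊤) Γ(X, ⊤) Γ(F, ⊤) :=
    Derivation.mk'
      { toFun := δ
        map_add' := map_add δ
        map_smul' := fun r x => by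
          rw [Algebra.smul_def, RingHom.algebraMap_toAlgebra, hmul, hc, smul_zero, add_zero]
          rfl }
      hmul
  let ℓ : Γ(Omega.sheaf g, ⊤) →ₗ[Γ(X, ⊤)] Γ(F, ⊤) :=
    { toFun := fun m => δ'.liftKaehlerDifferential (T m)
      map_add' := fun a b => by rw [map_add, map_add]
      map_smul' := fun a m => by rw [hT, map_smul, RingHom.id_apply] }
  haveI : Coh.IsQCoh (Omega.sheaf g) := isQCoh_pullback _ (isQCoh_idealMod _)
  obtain ⟨Φ, hΦ⟩ := exists_fam (N := F) (isAffineOpen_top X) ℓ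
  obtain ⟨α, hα⟩ := exists_hom_of_fam (ι := PUnit.{u + 1}) (fun _ => (⊤ : X.Opens)) (fun _ => ⟨⟨⟩, trivial⟩)
    (fun _ => Φ) (fun _ _ x _ => ⟨⊤, isAffineOpen_top X, Set.univ, le_rfl, le_rfl, trivial,
      Submodule.span_univ, fun _ _ => rfl⟩)
  refine ⟨α, fun a => ?_⟩
  rw [hα ⟨⟩ ⊤ le_rfl, hΦ]
  show δ'.liftKaehlerDifferential (T _) = δ a
  rw [hTd, Derivation.liftKaehlerDifferential_comp_D]
  rfl

/-- The derivation of a morphism of affine schemes is universal. -/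
theorem isUniversal_dOmega_affine : OmegaSh.IsUniversal (OmegaSh.dOmega g) := by
  intro F D
  obtain ⟨α, hα⟩ := exists_der_of_top g F (D.app ⊤) (app_mul D ⊤) (fun c => app_comp D ⊤ c)
  refine ⟨α, der_ext fun U a => ?_, fun β hβ => ?_⟩
  · refine app_eq_of_affine _ D (isAffineOpen_top X) (fun a => ?_) U le_top a
    exact (postcomp_app _ α ⊤ a).trans (hα a)
  · letI : Algebra Γ(S, ⊤) Γ(X, ⊤) := g.appTop.hom.toAlgebra
    obtain ⟨T, hT, hTd⟩ := exists_sectEquiv_top g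
    haveI : Coh.IsQCoh (Omega.sheaf g) := isQCoh_pullback _ (isQCoh_idealMod _)
    refine Scheme.Modules.hom_ext _ _ fun V => ?_
    ext s
    refine Fam.eq_of_agree (isAffineOpen_top X) (Fam.ofHom β ⊤) (Fam.ofHom α ⊤) le_rfl le_rfl
      (Set.range fun a => OmegaSh.dSect g ⊤ a) ?_ ?_ V le_top s
    · let L : Γ(Omega.sheaf g, ⊤) ≃ₗ[Γ(X, ⊤)] Ω[Γ(X, ⊤)⁄Γ(S, ⊤)] :=
        { T with map_smul' := hT }
      refine Submodule.map_injective_of_injective (f := L.toLinearMap) L.injective ?_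
      rw [Submodule.map_span, Submodule.map_top, LinearEquiv.range, ← Set.range_comp]
      convert KaehlerDifferential.span_range_derivation Γ(S, ⊤) Γ(X, ⊤) using 2
      exact congrArg Set.range (funext fun a => hTd a)
    · rintro _ ⟨a, rfl⟩
      show β.app ⊤ (OmegaSh.dSect g ⊤ a) = α.app ⊤ (OmegaSh.dSect g ⊤ a)
      rw [hα]
      exact congrArg (fun E : OmegaSh.Der g F => E.app ⊤ a) hβ

end Groth.Agent.OmegaLib
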