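import Groth.Agent.OmegaLib.BaseChange
import Groth.Agent.CohQC.QuasiAffine
import Groth.Agent.CohQC.Affineness

/-!
# Differentials of a fibre product
-/

universe u

open CategoryTheory CategoryTheory.Limits AlgebraicGeometry TopologicalSpace Opposite TensorProduct

set_option backward.isDefEq.respectTransparency false
set_option linter.style.haveILetI false

noncomputable section

namespace Groth.Agent.OmegaLib

open Groth.Agent.QC Groth.Agent.ModDesc

/-- Kähler differentials of a pushout of algebras. -/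
lemma bijective_sum_of_isPushout (R A B C : Type u) [CommRing R] [CommRing A] [CommRing B] [CommRing C]
    [Algebra R A] [Algebra R B] [Algebra R C] [Algebra A C] [Algebra B C] [IsScalarTower R A C]
    [IsScalarTower R B C] [Algebra.IsPushout R A B C] :
    Function.Bijective (fun x : (C ⊗[A] Ω[A⁄R]) × (C ⊗[B] Ω[B⁄R]) =>
      LinearMap.liftBaseChange C (KaehlerDifferential.map R R A C) x.1 +
        LinearMap.liftBaseChange C (KaehlerDifferential.map R R B C) x.2) := by
  haveI : Algebra.IsPushout R B A C := .symm inferInstance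
  let F₁ := LinearMap.liftBaseChange C (KaehlerDifferential.map R R A C)
  let F₂ := LinearMap.liftBaseChange C (KaehlerDifferential.map R R B C)
  let pA := KaehlerDifferential.map R A C C
  let pB := KaehlerDifferential.map R B C C
  let eA := KaehlerDifferential.tensorKaehlerEquiv R A B C
  let eB := KaehlerDifferential.tensorKaehlerEquiv R B A C
  have hAA : ∀ z, pA (F₁ z) = 0 := by
    intro z
    induction z with
    | zero => simp
    | add a b ha hb => simp only [map_add, ha, hb, add_zero]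
    | tmul c w =>
      have hw : w ∈ Submodule.span A (Set.range (KaehlerDifferential.D R A)) := by
        rw [KaehlerDifferential.span_range_derivation]; trivial
      induction hw using Submodule.span_induction generalizing c with
      | mem y hy =>
        obtain ⟨a, rfl⟩ := hy
        show pA (F₁ (c ⊗ₜ _)) = 0
        rw [LinearMap.liftBaseChange_tmul, KaehlerDifferential.map_D, map_smul, KaehlerDifferential.map_D]
        simp
      | zero => simp
      | add a b _ _ ha hb => rw [TensorProduct.tmul_add, map_add, map_add, ha, hb, add_zero]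
      | smul r a _ ha => rw [← TensorProduct.smul_tmul, ha]
  have hBB : ∀ z, pB (F₂ z) = 0 := by
    intro z
    induction z with
    | zero => simp
    | add a b ha hb => simp only [map_add, ha, hb, add_zero]
    | tmul c w =>
      have hw : w ∈ Submodule.span B (Set.range (KaehlerDifferential.D R B)) := by
        rw [KaehlerDifferential.span_range_derivation]; trivial
      induction hw using Submodule.span_induction generalizing c with
      | mem y hy =>
        obtain ⟨a, rfl⟩ := hy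
        show pB (F₂ (c ⊗ₜ _)) = 0
        rw [LinearMap.liftBaseChange_tmul, KaehlerDifferential.map_D, map_smul, KaehlerDifferential.map_D]
        simp
      | zero => simp
      | add a b _ _ ha hb => rw [TensorProduct.tmul_add, map_add, map_add, ha, hb, add_zero]
      | smul r a _ ha => rw [← TensorProduct.smul_tmul, ha]
  have hAB : ∀ z, pA (F₂ z) = eA z := by
    intro z
    induction z with
    | zero => simp
    | add a b ha hb => simp only [map_add, ha, hb]
    | tmul c w =>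
      have hw : w ∈ Submodule.span B (Set.range (KaehlerDifferential.D R B)) := by
        rw [KaehlerDifferential.span_range_derivation]; trivial
      induction hw using Submodule.span_induction generalizing c with
      | mem y hy =>
        obtain ⟨a, rfl⟩ := hy
        show pA (F₂ (c ⊗ₜ _)) = _
        rw [LinearMap.liftBaseChange_tmul, KaehlerDifferential.map_D, map_smul, KaehlerDifferential.map_D,
          KaehlerDifferential.tensorKaehlerEquiv_tmul_D]
        rfl
      | zero => simp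
      | add a b _ _ ha hb => rw [TensorProduct.tmul_add, map_add, map_add, map_add, ha, hb]
      | smul r a _ ha => rw [← TensorProduct.smul_tmul, ha]
  have hBA : ∀ z, pB (F₁ z) = eB z := by
    intro z
    induction z with
    | zero => simp
    | add a b ha hb => simp only [map_add, ha, hb]
    | tmul c w =>
      have hw : w ∈ Submodule.span A (Set.range (KaehlerDifferential.D R A)) := by
        rw [KaehlerDifferential.span_range_derivation]; trivial
      induction hw using Submodule.span_induction generalizing c with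
      | mem y hy =>
        obtain ⟨a, rfl⟩ := hy
        show pB (F₁ (c ⊗ₜ _)) = _
        rw [LinearMap.liftBaseChange_tmul, KaehlerDifferential.map_D, map_smul, KaehlerDifferential.map_D,
          KaehlerDifferential.tensorKaehlerEquiv_tmul_D]
        rfl
      | zero => simp
      | add a b _ _ ha hb => rw [TensorProduct.tmul_add, map_add, map_add, map_add, ha, hb]
      | smul r a _ ha => rw [← TensorProduct.smul_tmul, ha]
  refine ⟨fun x y hxy => ?_, fun t => ?_⟩
  · refine Prod.ext ?_ ?_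
    · have h := congrArg pB hxy
      simp only [map_add] at h
      change pB (F₁ x.1) + pB (F₂ x.2) = pB (F₁ y.1) + pB (F₂ y.2) at h
      rw [hBB, hBB, hBA, hBA, add_zero, add_zero] at h
      exact eB.injective h
    · have h := congrArg pA hxy
      simp only [map_add] at h
      change pA (F₁ x.1) + pA (F₂ x.2) = pA (F₁ y.1) + pA (F₂ y.2) at h
      rw [hAA, hAA, hAB, hAB, zero_add, zero_add] at h
      exact eA.injective h
  · suffices ht : t ∈ LinearMap.range (F₁.coprod F₂) by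
      obtain ⟨x, hx⟩ := ht
      exact ⟨x, (LinearMap.coprod_apply F₁ F₂ x).symm.trans hx⟩
    have hspan : t ∈ Submodule.span C (Set.range (KaehlerDifferential.D R C)) := by
      rw [KaehlerDifferential.span_range_derivation]; trivial
    refine (Submodule.span_le.mpr ?_ hspan : t ∈ LinearMap.range (F₁.coprod F₂))
    rintro _ ⟨c, rfl⟩
    obtain ⟨z, rfl⟩ := (Algebra.IsPushout.equiv R A B C).surjective c
    induction z with
    | zero => simp
    | add a b ha hb => simpa only [map_add, SetLike.mem_coe] using Submodule.add_mem _ ha hb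
    | tmul a b =>
      rw [Algebra.IsPushout.equiv_tmul, Derivation.leibniz]
      refine Submodule.add_mem _ (Submodule.smul_mem _ _ ⟨(0, 1 ⊗ₜ KaehlerDifferential.D R B b), ?_⟩)
        (Submodule.smul_mem _ _ ⟨(1 ⊗ₜ KaehlerDifferential.D R A a, 0), ?_⟩)
      · rw [LinearMap.coprod_apply, map_zero, zero_add, LinearMap.liftBaseChange_tmul, one_smul,
          KaehlerDifferential.map_D]
      · rw [LinearMap.coprod_apply, map_zero, add_zero, LinearMap.liftBaseChange_tmul, one_smul,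
          KaehlerDifferential.map_D]

set_option maxHeartbeats 1600000 in
/-- The differentials of a fibre product are the sum of the pullbacks. -/
theorem isIso_coprod_desc {X Y S Z : Scheme.{u}} {a : X ⟶ S} {b : Y ⟶ S} {p : Z ⟶ X} {q : Z ⟶ Y} {h : Z ⟶ S}
    (wp : p ≫ a = h) (wq : q ≫ b = h) (hZ : IsPullback p q a b)
    {ΩX : X.Modules} {dX : OmegaSh.Der a ΩX} (hX : OmegaSh.IsUniversal dX)
    {ΩY : Y.Modules} {dY : OmegaSh.Der b ΩY} (hY : OmegaSh.IsUniversal dY)
    {ΩZ : Z.Modules} {dZ : OmegaSh.Der h ΩZ} (hZu : OmegaSh.IsUniversal dZ)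
    {c₁ : (Scheme.Modules.pullback p).obj ΩX ⟶ ΩZ} (hc₁ : OmegaSh.IsDiffCompat p dX dZ c₁)
    {c₂ : (Scheme.Modules.pullback q).obj ΩY ⟶ ΩZ} (hc₂ : OmegaSh.IsDiffCompat q dY dZ c₂) :
    IsIso (coprod.desc c₁ c₂) := by
  suffices IsIso (biprod.desc c₁ c₂) by
    rw [show coprod.desc c₁ c₂ = (biprod.isoCoprod _ _).inv ≫ biprod.desc c₁ c₂ from
      coprod.hom_ext (by simp) (by simp)]
    infer_instance
  have hex : ∀ z : Z, ∃ (V : S.Opens) (U : X.Opens) (W : Y.Opens), IsAffineOpen V ∧ IsAffineOpen U ∧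
      IsAffineOpen W ∧ U ≤ a ⁻¹ᵁ V ∧ W ≤ b ⁻¹ᵁ V ∧ z ∈ p ⁻¹ᵁ U ⊓ q ⁻¹ᵁ W := by
    intro z
    obtain ⟨V, hV, U, hU, e, hx⟩ := exists_affine_pair a (p z)
    have hzV : q z ∈ b ⁻¹ᵁ V := by
      show (q ≫ b) z ∈ V
      rw [← hZ.w]
      exact e hx
    obtain ⟨_, ⟨(W : Y.Opens), hW, rfl⟩, hzW, hWle⟩ := Y.isBasis_affineOpens.exists_subset_of_mem_open
      (show q z ∈ ((b ⁻¹ᵁ V : Y.Opens) : Set Y) from hzV) (b ⁻¹ᵁ V).2
    exact ⟨V, U, W, hV, hU, hW, e, hWle, hx, hzW⟩
  choose V U W hV hU hW e eb hmem using hex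
  have haff : ∀ z, IsAffineOpen (p ⁻¹ᵁ U z ⊓ q ⁻¹ᵁ W z) := fun z => by
    haveI : IsAffine (V z).toScheme := hV z
    haveI : IsAffine (U z).toScheme := hU z
    haveI : IsAffine (W z).toScheme := hW z
    exact .of_isIso (Scheme.Hom.isPullback_resLE hZ (eb z) (e z) rfl).isoPullback.hom
  refine isIso_of_affine_cover (CohQC.isQCoh_biprod (isQCoh_pullback _ (isQCoh_of_isUniversal hX))
    (isQCoh_pullback _ (isQCoh_of_isUniversal hY))) (isQCoh_of_isUniversal hZu) _
    (fun z => p ⁻¹ᵁ U z ⊓ q ⁻¹ᵁ W z) haff (fun z => ⟨z, hmem z⟩) fun z => ?_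
  have ep : p ⁻¹ᵁ U z ⊓ q ⁻¹ᵁ W z ≤ p ⁻¹ᵁ U z := inf_le_left
  have eq' : p ⁻¹ᵁ U z ⊓ q ⁻¹ᵁ W z ≤ q ⁻¹ᵁ W z := inf_le_right
  have eh : p ⁻¹ᵁ U z ⊓ q ⁻¹ᵁ W z ≤ h ⁻¹ᵁ V z := by
    rw [← wp]
    exact ep.trans (p.preimage_mono (e z))
  have hsection := isIso_pushoutSection_of_isAffineOpen hZ (eb z) (e z) rfl (hV z) (hW z) (hU z)
  have hpo := (isIso_pushoutSection_iff hZ (eb z) (e z) rfl).mp hsection
  have hw : ∀ {T : Scheme.{u}} {t : T ⟶ S} {r : Z ⟶ T} (_ : r ≫ t = h) {O : T.Opens} (eO : O ≤ t ⁻¹ᵁ V z)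
      (er : p ⁻¹ᵁ U z ⊓ q ⁻¹ᵁ W z ≤ r ⁻¹ᵁ O) (x : Γ(S, V z)),
      r.appLE O _ er (t.appLE (V z) O eO x) = h.appLE (V z) _ eh (RingHom.id Γ(S, V z) x) := by
    intro T t r hr O eO er x
    subst hr
    rw [← ConcreteCategory.comp_apply, Scheme.Hom.appLE_comp_appLE]
    rfl
  letI : Algebra Γ(S, V z) Γ(X, U z) := (a.appLE (V z) (U z) (e z)).hom.toAlgebra
  letI : Algebra Γ(S, V z) Γ(Y, W z) := (b.appLE (V z) (W z) (eb z)).hom.toAlgebra
  letI : Algebra Γ(X, U z) Γ(Z, p ⁻¹ᵁ U z ⊓ q ⁻¹ᵁ W z) := (p.appLE (U z) _ ep).hom.toAlgebra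
  letI : Algebra Γ(Y, W z) Γ(Z, p ⁻¹ᵁ U z ⊓ q ⁻¹ᵁ W z) := (q.appLE (W z) _ eq').hom.toAlgebra
  letI : Algebra Γ(S, V z) Γ(Z, p ⁻¹ᵁ U z ⊓ q ⁻¹ᵁ W z) := (h.appLE (V z) _ eh).hom.toAlgebra
  haveI : IsScalarTower Γ(S, V z) Γ(X, U z) Γ(Z, p ⁻¹ᵁ U z ⊓ q ⁻¹ᵁ W z) :=
    IsScalarTower.of_algebraMap_eq fun r => (hw wp (e z) ep r).symm
  haveI : IsScalarTower Γ(S, V z) Γ(Y, W z) Γ(Z, p ⁻¹ᵁ U z ⊓ q ⁻¹ᵁ W z) :=
    IsScalarTower.of_algebraMap_eq fun r => (hw wq (eb z) eq' r).symm
  haveI : Algebra.IsPushout Γ(S, V z) Γ(X, U z) Γ(Y, W z) Γ(Z, p ⁻¹ᵁ U z ⊓ q ⁻¹ᵁ W z) :=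
    CommRingCat.isPushout_iff_isPushout.mp hpo
  obtain ⟨L₁, L', hL₁, -, hL'⟩ := exists_coords hX hZu hc₁ (hU z) (hV z) (haff z) (hV z) (e z) eh ep
    (RingHom.id _) (hw wp (e z) ep)
  obtain ⟨L₂, L'', hL₂, -, hL''⟩ := exists_coords hY hZu hc₂ (hW z) (hV z) (haff z) (hV z) (eb z) eh eq'
    (RingHom.id _) (hw wq (eb z) eq')
  have hLL : ∀ t, L'' t = L' t := by
    intro t
    have ht : t ∈ Submodule.span Γ(Z, p ⁻¹ᵁ U z ⊓ q ⁻¹ᵁ W z) (Set.range (dZ.app (p ⁻¹ᵁ U z ⊓ q ⁻¹ᵁ W z))) := by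
      rw [span_app hZu eh (haff z) (hV z)]; trivial
    induction ht using Submodule.span_induction with
    | mem y hy =>
      obtain ⟨x, rfl⟩ := hy
      rw [hL', hL'']
    | zero => simp only [map_zero]
    | add x y _ _ hx hy => simp only [map_add, hx, hy]
    | smul r x _ hx => rw [map_smul, map_smul, hx]
  let B := CohQC.biprodSections ((Scheme.Modules.pullback p).obj ΩX) ((Scheme.Modules.pullback q).obj ΩY)
    (p ⁻¹ᵁ U z ⊓ q ⁻¹ᵁ W z)
  have hsum : ∀ x, L' ((biprod.desc c₁ c₂).app (p ⁻¹ᵁ U z ⊓ q ⁻¹ᵁ W z) (B.symm x)) =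
      LinearMap.liftBaseChange Γ(Z, p ⁻¹ᵁ U z ⊓ q ⁻¹ᵁ W z)
          (KaehlerDifferential.map Γ(S, V z) Γ(S, V z) Γ(X, U z) Γ(Z, p ⁻¹ᵁ U z ⊓ q ⁻¹ᵁ W z)) (L₁ x.1) +
        LinearMap.liftBaseChange Γ(Z, p ⁻¹ᵁ U z ⊓ q ⁻¹ᵁ W z)
          (KaehlerDifferential.map Γ(S, V z) Γ(S, V z) Γ(Y, W z) Γ(Z, p ⁻¹ᵁ U z ⊓ q ⁻¹ᵁ W z)) (L₂ x.2) := by
    intro x
    show L' ((biprod.desc c₁ c₂).app _ ((biprod.inl : (Scheme.Modules.pullback p).obj ΩX ⟶ _ ⊞ _).app _ x.1 +
      (biprod.inr : (Scheme.Modules.pullback q).obj ΩY ⟶ _ ⊞ _).app _ x.2)) = _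
    rw [map_add]
    show L' ((biprod.inl ≫ biprod.desc c₁ c₂).app _ x.1 + (biprod.inr ≫ biprod.desc c₁ c₂).app _ x.2) = _
    rw [biprod.inl_desc, biprod.inr_desc, map_add, hL₁, ← hLL, hL₂]
  refine (Function.Bijective.of_comp_iff' L'.bijective _).mp
    ((Function.Bijective.of_comp_iff _ B.symm.bijective).mp ?_)
  show Function.Bijective (fun x => L' ((biprod.desc c₁ c₂).app _ (B.symm x)))
  rw [funext hsum]
  exact (bijective_sum_of_isPushout Γ(S, V z) Γ(X, U z) Γ(Y, W z) Γ(Z, p ⁻¹ᵁ U z ⊓ q ⁻¹ᵁ W z)).comp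
    (L₁.bijective.prodMap L₂.bijective)

end Groth.Agent.OmegaLib
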