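import Groth.Agent.OmegaLib.SmoothRank
import Groth.Agent.FittLib.SmoothCrit
import Groth.Agent.LocFree.Props
import Groth.Agent.S2156
import Groth.Agent.S6894
import Groth.Agent.S3440
import Groth.Agent.GeomProp.SmoothPoint

/-!
# Smoothness at a point and the rank of a sheaf of differentials
-/

universe u

open CategoryTheory CategoryTheory.Limits AlgebraicGeometry TopologicalSpace Opposite TensorProduct

set_option backward.isDefEq.respectTransparency false
set_option linter.style.haveILetI false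

noncomputable section

namespace Groth.Agent.OmegaLib

open Groth.Agent.QC Groth.Agent.ModDesc

/-- A module free of rank `n` has a basis of `n` sections over every affine open. -/
theorem exists_basis_of_iso {X : Scheme.{u}} {M : X.Modules} {n : ℕ} (e : M ≅ FlatMod.freeMod X n)
    {D : X.Opens} (hD : IsAffineOpen D) :
    Nonempty (Module.Basis (ULift.{u} (Fin n)) Γ(X, D) Γ(M, D)) := by
  let e' : M.restrict hD.fromSpec ≅ FlatMod.freeMod (Spec Γ(X, D)) n :=
    (Scheme.Modules.restrictFunctor hD.fromSpec).mapIso e ≪≫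
      (Scheme.Modules.restrictFunctorIsoPullback hD.fromSpec).app _ ≪≫
      Groth.Agent.DerPerf.pullFreeIso hD.fromSpec n
  let e'' : M.restrict hD.fromSpec ≅ tilde (ModuleCat.of Γ(X, D) (ULift.{u} (Fin n) →₀ Γ(X, D))) :=
    e' ≪≫ (Sigma.whiskerEquiv (f := fun _ : ULift.{u} (Fin n) => Coh.structureModule (Spec Γ(X, D)))
      (g := fun _ : Fin n => Coh.structureModule (Spec Γ(X, D))) Equiv.ulift (fun _ => Iso.refl _)).symm ≪≫
      (tildeFinsupp (R := Γ(X, D)) (ULift.{u} (Fin n))).symm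
  exact ⟨⟨(topEquiv hD M).symm.trans (moduleSpecΓFunctor.mapIso e'' ≪≫
    (tilde.toTildeΓNatIso.app (ModuleCat.of Γ(X, D) (ULift.{u} (Fin n) →₀ Γ(X, D)))).symm).toLinearEquiv⟩⟩

/-- Local rings of fibres do not change along open immersions of source and target. -/
theorem regular_fiberStalk_of_comp {X Y U V : Scheme.{u}} {f : X ⟶ Y} {g : U ⟶ V} (i : U ⟶ X) (k : V ⟶ Y)
    [IsOpenImmersion i] [IsOpenImmersion k] (w : i ≫ f = g ≫ k) (z : U)
    (h : IsRegularLocalRing ((g.fiber (g z)).presheaf.stalk (g.asFiber z))) :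
    IsRegularLocalRing ((f.fiber (f (i z))).presheaf.stalk (f.asFiber (i z))) := by
  let mx : Ideal (U.presheaf.stalk z) :=
    (IsLocalRing.maximalIdeal (Y.presheaf.stalk (f (i z)))).map ((i ≫ f).stalkMap z).hom
  have h1 : mx = ((IsLocalRing.maximalIdeal (Y.presheaf.stalk (f (i z)))).map (f.stalkMap (i z)).hom).map
      (i.stalkMap z).hom := by
    rw [Ideal.map_map, ← CommRingCat.hom_comp, ← Scheme.Hom.stalkMap_comp]
  have h2 : mx = (IsLocalRing.maximalIdeal (V.presheaf.stalk (g z))).map (g.stalkMap z).hom := by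
    have hk : ((g ≫ k).stalkMap z).hom = (g.stalkMap z).hom.comp (k.stalkMap (g z)).hom := by
      rw [← CommRingCat.hom_comp, ← Scheme.Hom.stalkMap_comp]
    have hm : (IsLocalRing.maximalIdeal (Y.presheaf.stalk (k (g z)))).map (k.stalkMap (g z)).hom =
        IsLocalRing.maximalIdeal (V.presheaf.stalk (g z)) :=
      IsLocalRing.eq_maximalIdeal (Ideal.map_isMaximal_of_equiv (asIso (k.stalkMap (g z))).commRingCatIsoToRingEquiv)
    have hgen : ∀ (m : U ⟶ Y), i ≫ f = m → mx =
        (IsLocalRing.maximalIdeal (Y.presheaf.stalk (m z))).map (m.stalkMap z).hom := by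
      rintro _ rfl; rfl
    rw [hgen _ w, hk, ← Ideal.map_map]
    exact congrArg _ hm
  obtain ⟨e₁⟩ := CMFlat.nonempty_fiberStalk_equiv f (i z)
  obtain ⟨e₂⟩ := CMFlat.nonempty_fiberStalk_equiv g z
  let eᵢ := (asIso (i.stalkMap z)).commRingCatIsoToRingEquiv
  haveI := h
  exact IsRegularLocalRing.of_ringEquiv (((Ideal.quotientEquiv _ _ eᵢ h1).trans
    ((Ideal.quotEquivOfEq h2).trans e₂)).symm.trans e₁)

/-- Flatness, free differentials of rank `n` and fibre dimension at least `n` give smoothness. -/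
theorem mem_smoothLocus_of_omega_iso {X Y : Scheme.{u}} (g : X ⟶ Y) [LocallyOfFinitePresentation g]
    [QuasiSeparated g] {n : ℕ} (e : Omega.sheaf g ≅ FlatMod.freeMod X n) (x : X)
    (hflat : IsRegularLocalRing ((g.fiber (g x)).presheaf.stalk (g.asFiber x)) → (g.stalkMap x).hom.Flat)
    (hdim : (n : WithBot ℕ∞) ≤ FlatMor.fibreDimAt g x) :
    x ∈ g.smoothLocus := by
  classical
  haveI : LocallyOfFinitePresentation (g.fiberToSpecResidueField (g x)) :=
    MorphismProperty.pullback_snd _ _ ‹_›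
  haveI : QuasiSeparated (g.fiberToSpecResidueField (g x)) := MorphismProperty.pullback_snd _ _ ‹_›
  obtain ⟨_, ⟨(U : X.Opens), hU, rfl⟩, hxU, -⟩ :=
    X.isBasis_affineOpens.exists_subset_of_mem_open (Set.mem_univ x) isOpen_univ
  obtain ⟨b⟩ := exists_basis_of_iso e hU
  haveI : Module.Finite Γ(X, U) Γ(Omega.sheaf g, U) := Module.Finite.of_basis b
  haveI : Module.Free Γ(X, U) Γ(Omega.sheaf g, U) := Module.Free.of_basis b
  have hx : x ∉ (Fitt.sheafIdeal (Omega.sheaf g) n).support := by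
    rw [FittLib.mem_support_iff _ ⟨U, hU⟩ hxU, FittLib.sheafIdeal_ideal (FittLib.isQCoh_omega g) (FittLib.isFT_omega g)]
    refine (S6894.result Γ(Omega.sheaf g, U) n _).1.2 ?_
    haveI : Nontrivial Γ(X, U) := ⟨⟨0, 1, fun h => (hU.primeIdealOf ⟨x, hxU⟩).isPrime.ne_top
      ((Ideal.eq_top_iff_one _).mpr (h ▸ Submodule.zero_mem _))⟩⟩
    rw [Module.finrank_baseChange, Module.finrank_eq_card_basis b]
    simp
  have hne : g.asFiber x ∉
      (Fitt.sheafIdeal (Omega.sheaf (g.fiberToSpecResidueField (g x))) n).support := by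
    intro hm
    have e := FittLib.sheafIdeal_omega_comap g (Y.fromSpecResidueField (g x)) n
    have hm' : g.asFiber x ∈ (((Fitt.sheafIdeal (Omega.sheaf g) n).comap (g.fiberι (g x))).support :
        TopologicalSpace.Closeds ↥(g.fiber (g x))) :=
      SetLike.ext_iff.mp (congrArg Scheme.IdealSheafData.support e.symm) _ |>.mp hm
    rw [Scheme.IdealSheafData.support_comap] at hm'
    exact hx ((g.fiberι_asFiber x) ▸ (show g.fiberι (g x) (g.asFiber x) ∈ _ from hm'))
  have hsm := FittLib.mem_smoothLocus_of_not_mem (K := Y.residueField (g x)) (g.fiberToSpecResidueField (g x))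
    (g.asFiber x) hne hdim
  exact (S2156.result g x).2 ⟨hflat (GeomProp.regular_stalk_of_mem_smoothLocus _ hsm), hsm⟩

variable {X Y : Scheme.{u}} {f : X ⟶ Y} [LocallyOfFinitePresentation f] {Ω : X.Modules} {d : OmegaSh.Der f Ω}

/-- Flatness, free differentials of rank `n` near a point and fibre dimension `n` give smoothness. -/
theorem mem_smoothLocus_of_free (hd : OmegaSh.IsUniversal d) {x : X} {W : X.Opens} (hxW : x ∈ W) {n : ℕ}
    (eW : Ω.restrict W.ι ≅ FlatMod.freeMod (↑W) n)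
    (hflat : IsRegularLocalRing ((f.fiber (f x)).presheaf.stalk (f.asFiber x)) → (f.stalkMap x).hom.Flat)
    (hdim : FlatMor.fibreDimAt f x = (n : WithBot ℕ∞)) : x ∈ f.smoothLocus := by
  obtain ⟨_, ⟨(V : Y.Opens), hV, rfl⟩, hxV, -⟩ := Y.isBasis_affineOpens.exists_subset_of_mem_open
    (Set.mem_univ (f x)) isOpen_univ
  obtain ⟨_, ⟨(U : X.Opens), hU, rfl⟩, hxU, hUVW⟩ := X.isBasis_affineOpens.exists_subset_of_mem_open
    (show x ∈ ((f ⁻¹ᵁ V ⊓ W : X.Opens) : Set X) from ⟨hxV, hxW⟩) (f ⁻¹ᵁ V ⊓ W).2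
  have eV : U ≤ f ⁻¹ᵁ V := fun z hz => (hUVW hz).1
  have hUW : U ≤ W := fun z hz => (hUVW hz).2
  haveI : IsAffine U.toScheme := hU
  haveI : IsAffine V.toScheme := hV
  let g := f.resLE V U eV
  have hgι : g ≫ V.ι = U.ι ≫ f := f.resLE_comp_ι eV
  haveI : LocallyOfFinitePresentation g :=
    MorphismProperty.of_postcomp (W := @LocallyOfFinitePresentation) (W' := @IsOpenImmersion) g V.ι
      inferInstance (by rw [hgι]; infer_instance)
  haveI : QuasiSeparated g := inferInstance
  obtain ⟨θ, -⟩ := exists_iso_of_isUniversal (isUniversal_dOmega g) (isUniversal_resDer eV hd)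
  have hι : X.homOfLE hUW ≫ W.ι = U.ι := X.homOfLE_ι hUW
  let eU : Ω.restrict U.ι ≅ FlatMod.freeMod (↑U) n :=
    (Scheme.Modules.restrictFunctorCongr hι).symm.app Ω ≪≫
      (Scheme.Modules.restrictFunctorComp (X.homOfLE hUW) W.ι).app Ω ≪≫
      (Scheme.Modules.restrictFunctor (X.homOfLE hUW)).mapIso eW ≪≫
      (Scheme.Modules.restrictFunctorIsoPullback (X.homOfLE hUW)).app _ ≪≫
      Groth.Agent.DerPerf.pullFreeIso (X.homOfLE hUW) n
  let z : U.toScheme := ⟨x, hxU⟩
  have hz : U.ι z = x := rfl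
  have hflatg : IsRegularLocalRing ((g.fiber (g z)).presheaf.stalk (g.asFiber z)) →
      (g.stalkMap z).hom.Flat := fun hreg => by
    have hflat' := hflat (regular_fiberStalk_of_comp U.ι V.ι hgι.symm z hreg)
    have h1 : ((g ≫ V.ι).stalkMap z).hom.Flat := by
      rw [hgι, Scheme.Hom.stalkMap_comp, CommRingCat.hom_comp]
      exact RingHom.Flat.comp hflat' (Flat.stalkMap U.ι z)
    rw [Scheme.Hom.stalkMap_comp] at h1
    exact (RingHom.Flat.respectsIso.cancel_left_isIso (V.ι.stalkMap (g z)) (g.stalkMap z)).1 h1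
  have hdimg : FlatMor.fibreDimAt g z = (n : WithBot ℕ∞) := by
    rw [LocalDimBC.fibreDimAt_comp_openImmersion g V.ι, hgι,
      LocalDimBC.fibreDimAt_openImmersion_comp, hz, hdim]
  have hsm := mem_smoothLocus_of_omega_iso g (θ ≪≫ eU) z hflatg hdimg.ge
  have hsm' : z ∈ (U.ι ≫ f).smoothLocus := by
    have h1 : ((g ≫ V.ι).stalkMap z).hom.FormallySmooth := by
      rw [Scheme.Hom.stalkMap_comp]
      exact (RingHom.FormallySmooth.respectsIso.cancel_left_isIso (V.ι.stalkMap (g z)) (g.stalkMap z)).2 hsm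
    rw [hgι] at h1
    exact h1
  rw [← Scheme.Hom.preimage_smoothLocus_eq] at hsm'
  exact hsm'

/-- At a smooth point the differentials are free near it, of rank the dimension of the fibre. -/
theorem exists_free_of_mem_smoothLocus (hd : OmegaSh.IsUniversal d) {x : X} (hx : x ∈ f.smoothLocus) :
    (f.stalkMap x).hom.Flat ∧ ∃ (U : X.Opens) (n : ℕ), x ∈ U ∧
      Nonempty (Ω.restrict U.ι ≅ FlatMod.freeMod (↑U) n) ∧ FlatMor.fibreDimAt f x = (n : WithBot ℕ∞) := by
  haveI : LocallyOfFinitePresentation (f.fiberToSpecResidueField (f x)) :=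
    MorphismProperty.pullback_snd _ _ ‹_›
  refine ⟨((S2156.result f x).1 hx).1, ?_⟩
  obtain ⟨_, ⟨(V : Y.Opens), hV, rfl⟩, hxV, -⟩ := Y.isBasis_affineOpens.exists_subset_of_mem_open
    (Set.mem_univ (f x)) isOpen_univ
  obtain ⟨_, ⟨(U₀ : X.Opens), hU₀, rfl⟩, hxU₀, hU₀'⟩ := X.isBasis_affineOpens.exists_subset_of_mem_open
    (show x ∈ ((f ⁻¹ᵁ V ⊓ f.smoothLocus : X.Opens) : Set X) from ⟨hxV, hx⟩) (f ⁻¹ᵁ V ⊓ f.smoothLocus).2
  have key : ∀ {D : X.Opens} (hD : IsAffineOpen D) (e : D ≤ f ⁻¹ᵁ V), D ≤ f.smoothLocus →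
      letI : Algebra Γ(Y, V) Γ(X, D) := (f.appLE V D e).hom.toAlgebra
      Algebra.Smooth Γ(Y, V) Γ(X, D) := by
    intro D hD e hle
    letI : Algebra Γ(Y, V) Γ(X, D) := (f.appLE V D e).hom.toAlgebra
    haveI hfp : Algebra.FinitePresentation Γ(Y, V) Γ(X, D) :=
      HasRingHomProperty.appLE @LocallyOfFinitePresentation f inferInstance ⟨V, hV⟩ ⟨D, hD⟩ e
    refine ⟨Algebra.smoothLocus_eq_univ_iff.mp (Set.eq_univ_iff_forall.mpr fun p => ?_), hfp⟩
    have hy : hD.fromSpec p ∈ D := hD.range_fromSpec.le ⟨p, rfl⟩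
    have h1 := (formallySmooth_stalkMap_iff V hV D hD e hy).1 (hle hy)
    have h2 : hD.primeIdealOf ⟨hD.fromSpec p, hy⟩ = p := hD.fromSpec.isOpenEmbedding.injective
      (hD.fromSpec_primeIdealOf ⟨hD.fromSpec p, hy⟩)
    rw [h2] at h1
    exact h1
  have e₀ : U₀ ≤ f ⁻¹ᵁ V := fun z hz => (hU₀' hz).1
  have hle₀ : U₀ ≤ f.smoothLocus := fun z hz => (hU₀' hz).2
  haveI hqc : Coh.IsQCoh Ω := isQCoh_of_isUniversal hd
  letI : Algebra Γ(Y, V) Γ(X, U₀) := (f.appLE V U₀ e₀).hom.toAlgebra
  haveI := key hU₀ e₀ hle₀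
  obtain ⟨L₀, -⟩ := exists_linearEquiv hd e₀ hU₀ hV
  haveI : Module.Finite Γ(X, U₀) Γ(Ω, U₀) := Module.Finite.equiv L₀.symm
  haveI : Module.Projective Γ(X, U₀) Γ(Ω, U₀) := Module.Projective.of_equiv L₀.symm
  haveI : Module.FinitePresentation Γ(X, U₀) Γ(Ω, U₀) := Module.finitePresentation_of_projective _ _
  let p := (hU₀.primeIdealOf ⟨x, hxU₀⟩).asIdeal
  haveI : Module.Free (Localization.AtPrime p) (LocalizedModule p.primeCompl Γ(Ω, U₀)) :=
    Module.free_of_flat_of_isLocalRing
  obtain ⟨r, hr, hfree⟩ := Module.FinitePresentation.exists_free_localizedModule_powers p.primeCompl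
    (LocalizedModule.mkLinearMap p.primeCompl Γ(Ω, U₀)) (Localization.AtPrime p)
  haveI := hfree.1
  obtain ⟨hfree', hfin'⟩ := LocFree.free_finite_basicOpen hqc hU₀ r
  have hD := hU₀.basicOpen r
  have hxD : x ∈ X.basicOpen r := by
    have h : hU₀.fromSpec (hU₀.primeIdealOf ⟨x, hxU₀⟩) = x := hU₀.fromSpec_primeIdealOf ⟨x, hxU₀⟩
    have hm : hU₀.primeIdealOf ⟨x, hxU₀⟩ ∈ hU₀.fromSpec ⁻¹ᵁ X.basicOpen r := by
      rw [hU₀.fromSpec_preimage_basicOpen]; exact hr
    have hm' : hU₀.fromSpec (hU₀.primeIdealOf ⟨x, hxU₀⟩) ∈ X.basicOpen r := hm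
    rwa [h] at hm'
  have eD : X.basicOpen r ≤ f ⁻¹ᵁ V := (X.basicOpen_le r).trans e₀
  letI : Algebra Γ(Y, V) Γ(X, X.basicOpen r) := (f.appLE V (X.basicOpen r) eD).hom.toAlgebra
  haveI := key hD eD ((X.basicOpen_le r).trans hle₀)
  obtain ⟨L, -⟩ := exists_linearEquiv hd eD hD hV
  haveI : Module.Free Γ(X, X.basicOpen r) Ω[Γ(X, X.basicOpen r)⁄Γ(Y, V)] := Module.Free.of_equiv L
  obtain ⟨z, hz⟩ : x ∈ Set.range hD.fromSpec := hD.range_fromSpec.ge hxD
  haveI : Nontrivial Γ(X, X.basicOpen r) := ⟨⟨0, 1, fun h => z.isPrime.ne_top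
    ((Ideal.eq_top_iff_one _).mpr (h ▸ z.asIdeal.zero_mem))⟩⟩
  refine ⟨X.basicOpen r, Module.finrank Γ(X, X.basicOpen r) Γ(Ω, X.basicOpen r), hxD,
    exists_iso_free_of_basis hD ((Module.finBasis _ _).reindex Equiv.ulift.symm), ?_⟩
  rw [← hz, ← LocalDimBC.fibreDimAt_openImmersion_comp hD.fromSpec f z,
    ← IsAffineOpen.SpecMap_appLE_fromSpec f hV hD eD, ← LocalDimBC.fibreDimAt_comp_openImmersion,
    L.finrank_eq]
  refine (fibreDimAt_Spec_eq_rankAtStalk z).trans ?_
  rw [Module.rankAtStalk_eq_finrank_of_free]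
  rfl

/-- Over a regular base, with the expected dimension, free differentials of the fibre dimension give
smoothness. -/
theorem flat_of_regular_fiber {X Y : Scheme.{u}} (f : X ⟶ Y) [IsLocallyNoetherian X] (x : X)
    (hY : IsRegularLocalRing (Y.presheaf.stalk (f x)))
    (hF : IsRegularLocalRing ((f.fiber (f x)).presheaf.stalk (f.asFiber x)))
    (hdim : ringKrullDim (X.presheaf.stalk x) =
      ringKrullDim ((f.fiber (f x)).presheaf.stalk (f.asFiber x)) + ringKrullDim (Y.presheaf.stalk (f x))) :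
    (f.stalkMap x).hom.Flat := by
  classical
  obtain ⟨e⟩ := CMFlat.nonempty_fiberStalk_equiv f x
  let R : Type u := Y.presheaf.stalk (f x)
  let S : Type u := X.presheaf.stalk x
  letI : Algebra R S := (f.stalkMap x).hom.toAlgebra
  haveI : IsLocalHom (algebraMap R S) := inferInstanceAs (IsLocalHom (f.stalkMap x).hom)
  let I : Ideal S := (IsLocalRing.maximalIdeal R).map (algebraMap R S)
  haveI : IsRegularLocalRing (S ⧸ I) := IsRegularLocalRing.of_ringEquiv e.symm
  have hd : ringKrullDim S = ringKrullDim R + ringKrullDim (S ⧸ I) :=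
    hdim.trans ((add_comm _ _).trans (congrArg _ (ringKrullDim_eq_of_ringEquiv e).symm))
  haveI : IsRegularLocalRing S := by
    refine IsRegularLocalRing.of_spanFinrank_maximalIdeal_le _ ?_
    let G := (IsLocalRing.maximalIdeal (S ⧸ I)).generators
    have hG : G.Finite := (IsNoetherian.noetherian (IsLocalRing.maximalIdeal (S ⧸ I))).finite_generators
    let H := (IsLocalRing.maximalIdeal R).generators
    have hH : H.Finite := (IsNoetherian.noetherian (IsLocalRing.maximalIdeal R)).finite_generators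
    let σ : S ⧸ I → S := Function.surjInv Ideal.Quotient.mk_surjective
    have hσ : ∀ a, Ideal.Quotient.mk I (σ a) = a := Function.surjInv_eq Ideal.Quotient.mk_surjective
    have hI : Ideal.span (algebraMap R S '' H) = I := by
      rw [← Ideal.map_span]
      exact congrArg _ (Submodule.span_generators _)
    have hspan : Ideal.span (algebraMap R S '' H ∪ σ '' G) = IsLocalRing.maximalIdeal S := by
      rw [Ideal.span_union, hI]
      refine le_antisymm (sup_le CMFlat.map_le ?_) fun s hs => ?_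
      · rw [Ideal.span_le]
        rintro _ ⟨a, ha, rfl⟩
        refine (IsLocalRing.mem_maximalIdeal _).mpr fun hu => ?_
        have : a ∈ IsLocalRing.maximalIdeal (S ⧸ I) :=
          (Submodule.span_generators _).le (Submodule.subset_span ha)
        exact (IsLocalRing.mem_maximalIdeal _).mp this (hσ a ▸ hu.map (Ideal.Quotient.mk I))
      · haveI : IsLocalHom (Ideal.Quotient.mk I) :=
          IsLocalHom.of_surjective _ Ideal.Quotient.mk_surjective
        have hm : Ideal.Quotient.mk I s ∈ IsLocalRing.maximalIdeal (S ⧸ I) :=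
          (IsLocalRing.mem_maximalIdeal _).mpr fun hu =>
            (IsLocalRing.mem_maximalIdeal _).mp hs (isUnit_of_map_unit _ _ hu)
        have hG' : Ideal.span G = IsLocalRing.maximalIdeal (S ⧸ I) := Submodule.span_generators _
        have : Ideal.Quotient.mk I '' (σ '' G) = G := by
          rw [Set.image_image]; simp [hσ]
        rw [← hG', ← this, ← Ideal.map_span,
          Ideal.mem_map_iff_of_surjective _ Ideal.Quotient.mk_surjective] at hm
        obtain ⟨t, ht, hts⟩ := hm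
        have hst : s - t ∈ I := Ideal.Quotient.eq.mp hts.symm
        exact Submodule.mem_sup.mpr ⟨s - t, hst, t, ht, sub_add_cancel s t⟩
    haveI := hY
    haveI : IsRegularLocalRing R := hY
    rw [hd, ← IsRegularLocalRing.spanFinrank_maximalIdeal (R := R),
      ← IsRegularLocalRing.spanFinrank_maximalIdeal (R := S ⧸ I), ← hspan]
    have h1 := Submodule.spanFinrank_span_le_ncard_of_finite (R := S)
      ((hH.image (algebraMap R S)).union (hG.image σ))
    have h2 : (algebraMap R S '' H ∪ σ '' G).ncard ≤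
        (IsLocalRing.maximalIdeal R).spanFinrank + (IsLocalRing.maximalIdeal (S ⧸ I)).spanFinrank := by
      refine (Set.ncard_union_le _ _).trans (add_le_add ?_ ?_)
      · exact (Set.ncard_image_le hH).trans (IsNoetherian.noetherian _).generators_ncard.le
      · exact (Set.ncard_image_le hG).trans (IsNoetherian.noetherian _).generators_ncard.le
    exact_mod_cast h1.trans h2
  haveI := CMFlat.isCohenMacaulayLocalRing_of_isRegularLocalRing S
  haveI : IsRegularLocalRing R := hY
  exact S3440.flat_of_dim hd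

end Groth.Agent.OmegaLib
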